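import Cfsg.Agent.Lib.PkI.Det

/-! Rank three, `T` non-abelian (plans/PKI2.md) -/

set_option autoImplicit false

namespace CfsgLib.PkI

open Subgroup CfsgLib.Tech
open scoped commutatorElement

theorem ab3_dvd {K : Type*} [Group K] {X : Subgroup K} {S : Set K} (h : ∀ a ∈ S, ∀ y ∈ X, a * y ∈ S) :
    Nat.card X ∣ S.ncard := by
  have e : S = QuotientGroup.mk ⁻¹' ((QuotientGroup.mk : K → K ⧸ X) '' S) := by
    refine Set.ext fun a => ⟨fun ha => ⟨a, ha, rfl⟩, fun ⟨b, hb, e⟩ => ?_⟩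
    simpa using h b hb _ (QuotientGroup.eq.1 e)
  rw [e, ← Nat.card_coe_set_eq, QuotientGroup.card_preimage_mk]
  exact dvd_mul_right _ _

open Finset in
/-- counting the zeros of a quadratic form vanishing on a subgroup -/
theorem ab3_quad {K : Type*} [Group K] [Fintype K] (Q : K → ZMod 2) (B : K → K → ZMod 2)
    (hQ : ∀ a b, Q (a * b) = Q a + Q b + B a b) (hB : ∀ a b b', B a (b * b') = B a b + B a b') (X : Subgroup K)
    (hX : ∀ y ∈ X, Q y = 0) : ∃ i j : ℕ, 0 < i ∧ Nat.card X ∣ i ∧ i + j ∣ Nat.card K ∧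
      #{a | Q a = 0} + j = #{a | Q a ≠ 0} + i := by
  classical
  have hB' : ∀ a a' b, B (a * a') b = B a b + B a' b := fun a a' b => by
    have h1 := hQ (a * a') b
    rw [mul_assoc, hQ, hQ, hQ, hB] at h1
    linear_combination -h1
  have hB1 : ∀ b, B 1 b = 0 := fun b => by
    have := hB' 1 1 b
    rw [mul_one] at this
    linear_combination -this
  let Y : Subgroup K :=
    { carrier := {a | ∀ y ∈ X, B a y = 0}
      one_mem' := fun y _ => hB1 y
      mul_mem' := fun ha hb y hy => by rw [hB', ha y hy, hb y hy, add_zero]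
      inv_mem' := fun {a} ha y hy => by
        have := hB' a⁻¹ a y
        rwa [inv_mul_cancel, hB1, ha y hy, add_zero, eq_comm] at this }
  have hXY : X ≤ Y := fun a ha y hy => by
    have := hQ a y
    rwa [hX _ (X.mul_mem ha hy), hX a ha, hX y hy, zero_add, zero_add, eq_comm] at this
  let χ : ZMod 2 → ℤ := fun s => if s = 0 then 1 else -1
  have hχ : ∀ s t, χ (s + t) = χ s * χ t := by decide
  have h1 : ∀ a, ∑ y : X, χ (B a y) = if a ∈ Y then (Fintype.card X : ℤ) else 0 := fun a => by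
    split_ifs with ha
    · rw [sum_congr rfl fun (y : X) _ => show χ (B a y) = 1 by rw [ha y y.2]; rfl]
      simp
    · obtain ⟨y0, hy0, e⟩ : ∃ y ∈ X, B a y ≠ 0 := by
        by_contra hn
        push Not at hn
        exact ha hn
      have h2 := Equiv.sum_comp (Equiv.mulLeft (⟨y0, hy0⟩ : X)) fun y : X => χ (B a y)
      simp only [Equiv.coe_mulLeft, Subgroup.coe_mul, hB, hχ, ← mul_sum, show χ (B a y0) = -1 from if_neg e] at h2
      omega
  have h2 : (Fintype.card X : ℤ) * ∑ a, χ (Q a) = Fintype.card X * ∑ a with a ∈ Y, χ (Q a) := by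
    calc _ = ∑ y : X, ∑ a, χ (Q (a * y)) := by
          rw [sum_congr rfl fun (y : X) _ => show ∑ a, χ (Q (a * y)) = ∑ a, χ (Q a) from
            Equiv.sum_comp (Equiv.mulRight (y : K)) fun a => χ (Q a)]
          simp
      _ = ∑ a, χ (Q a) * ∑ y : X, χ (B a y) := by
          rw [sum_comm]
          refine sum_congr rfl fun a _ => ?_
          rw [mul_sum]
          exact sum_congr rfl fun y _ => by rw [hQ, hX y y.2, add_zero, hχ]
      _ = _ := by
          simp only [h1, mul_ite, mul_zero]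
          rw [← sum_filter, ← sum_mul, mul_comm]
  have h3 := mul_left_cancel₀ (by exact_mod_cast Fintype.card_ne_zero) h2
  simp only [χ, sum_ite, sum_const, smul_neg, nsmul_eq_mul, mul_one] at h3
  refine ⟨#{a ∈ ({a | a ∈ Y} : Finset K) | Q a = 0}, #{a ∈ ({a | a ∈ Y} : Finset K) | ¬ Q a = 0},
    card_pos.2 ⟨1, mem_filter.2 ⟨mem_filter.2 ⟨mem_univ _, Y.one_mem⟩, hX 1 X.one_mem⟩⟩, ?_, ?_, by simp only [ne_eq]; omega⟩
  · rw [← Set.ncard_coe_finset]
    refine ab3_dvd fun a ha y hy => ?_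
    simp only [coe_filter, mem_filter, mem_univ, true_and, Set.mem_ofPred_eq] at ha ⊢
    exact ⟨Y.mul_mem ha.1 (hXY hy), by rw [hQ, ha.2, hX y hy, ha.1 y hy, add_zero, add_zero]⟩
  · rw [card_filter_add_card_filter_not, ← Fintype.card_subtype, ← Nat.card_eq_fintype_card]
    exact Y.card_subgroup_dvd_card

variable {G : Type*} [Group G] [Finite G] {V T : Subgroup G} {p k : ℕ}

theorem ab3_x (h : Pyr V) [T.Normal] (hT : IsSylowIn 2 T (Cz V)) {ι : (Fin 3 → ZMod 2) → G} (c : Coord V ι) :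
    ∃ x, x * x ∈ T ∧ ∀ m, x * ι m * x⁻¹ = ι m → m 0 = 0 := by
  let φ : (Fin 3 → ZMod 2) ≃+ (Fin 3 → ZMod 2) :=
    { toFun := fun m => ![m 0, m 1 + m 0, m 2]
      invFun := fun m => ![m 0, m 1 + m 0, m 2]
      left_inv := by intro m; revert m; decide
      right_inv := by intro m; revert m; decide
      map_add' := by decide }
  obtain ⟨g, hg⟩ := c.full φ
  have h1 : g * g ∈ Cz V := c.mem_Cz.2 fun a => by
    rw [show g * g * ι a * (g * g)⁻¹ = g * (g * ι a * g⁻¹) * g⁻¹ by group, hg, hg]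
    exact congrArg ι (φ.left_inv a)
  obtain ⟨k, m, ⟨j, rfl⟩, e⟩ := Nat.exists_eq_two_pow_mul_odd (orderOf_pos g).ne'
  refine ⟨g ^ (2 * j + 1), zpowers_le.1 (hT.le_of_normalizes (isPGroup_zpowers_of_pow (k := k) ?_)
    (zpowers_le.2 ?_) le_normalizer_of_normal), fun a ha => ?_⟩
  · rw [← pow_two, ← pow_mul, ← pow_mul, ← orderOf_dvd_iff_pow_eq_one, e]
    exact ⟨2, by ring⟩
  · rw [← pow_two, ← pow_mul, mul_comm, pow_mul, pow_two]
    exact pow_mem h1 _
  · have h2 := c.mem_Cz.1 (pow_mem h1 j) (φ a)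
    rw [← pow_two, ← pow_mul] at h2
    have h3 : ι (φ a) = ι a := by
      rw [← h2, ← hg]
      refine Eq.trans ?_ ha
      rw [pow_succ]
      group
    have h4 : a 1 + a 0 = a 1 := congrFun (c.inj h3) 1
    exact add_eq_left.1 h4

theorem ab3_X (h : Pyr V) [T.Normal] (hVT : V ≤ T) (hs : Sz V T) {x : G} (hx : x * x ∈ T) :
    ∃ X : Subgroup T, (∀ a ∈ X, ⁅x, (a : G)⁆ ∈ V) ∧ Nat.card T * Nat.card V ≤ Nat.card X * Nat.card X := by
  have := h.normal
  have hc : ∀ a ∈ T, ⁅x, a⁆ ∈ T := fun a ha => T.mul_mem (Normal.conj_mem ‹_› a ha x) (T.inv_mem ha)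
  let ψ : T →* G ⧸ V := MonoidHom.mk' (fun a => QuotientGroup.mk ⁅x, (a : G)⁆) fun a b => by
    rw [← QuotientGroup.mk_mul, QuotientGroup.eq_iff_div_mem]
    have := Normal.conj_mem ‹V.Normal› _ (hs.comm a a.2 _ (hc b b.2)) ⁅x, (a : G)⁆
    convert this using 1
    simp only [commutatorElement_def, Subgroup.coe_mul, div_eq_mul_inv]
    group
  have hψ : ∀ a : T, a ∈ ψ.ker ↔ ⁅x, (a : G)⁆ ∈ V := fun a => QuotientGroup.eq_one_iff _
  refine ⟨ψ.ker, fun a => (hψ a).1, ?_⟩
  have h1 := det_card_map ((QuotientGroup.mk' V).comp T.subtype) ψ.ker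
  have h2 : ψ.range ≤ ψ.ker.map ((QuotientGroup.mk' V).comp T.subtype) := by
    rintro _ ⟨a, rfl⟩
    refine ⟨⟨_, hc a a.2⟩, (hψ _).2 ?_, rfl⟩
    have := V.mul_mem (hs.comm _ hx a a.2) (V.inv_mem (hs.sq _ (hc a a.2)))
    convert this using 1
    simp only [commutatorElement_def]
    group
  have h3 : ψ.ker ⊓ ((QuotientGroup.mk' V).comp T.subtype).ker = V.subgroupOf T := by
    rw [← MonoidHom.comap_ker, QuotientGroup.ker_mk']
    refine inf_eq_right.2 fun a ha => (hψ a).2 (V.mul_mem (Normal.conj_mem ‹V.Normal› (a : G) ha x) (V.inv_mem ha))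
  rw [h3, Nat.card_congr (subgroupOfEquivOfLe hVT).toEquiv] at h1
  rw [← card_mul_index ψ.ker, index_ker, mul_assoc]
  refine Nat.mul_le_mul_left _ ?_
  rw [h1]
  exact Nat.mul_le_mul_right _ (card_le_of_le h2)

open Finset in
theorem Pyr.ab3 (h : Pyr V) (hf : Full V) (h8 : Nat.card V = 8) [T.Normal] (hT : IsSylowIn 2 T (Cz V)) (hs : Sz V T) :
    T ≤ Cz T := by
  classical
  obtain ⟨ι, c⟩ := h.coord hf (Fin 3 → ZMod 2) (by simp [h8])
  obtain ⟨x, hx, hxι⟩ := ab3_x h hT c
  have hVT := h.le_syl hT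
  obtain ⟨X, hX, hXc⟩ := ab3_X h hVT hs hx
  let := Fintype.ofFinite T
  obtain ⟨μ, hμ, hμ'⟩ : ∃ μ : G → Fin 3 → ZMod 2, (∀ v ∈ V, ι (μ v) = v) ∧ ∀ m, μ (ι m) = m :=
    ⟨Function.invFun ι, fun v hv => Function.invFun_eq ((c.mem v).1 hv), Function.leftInverse_invFun c.inj⟩
  have hμ2 : ∀ u ∈ V, ∀ v ∈ V, μ (u * v) = μ u + μ v := fun u hu v hv => by
    rw [← hμ' (μ u + μ v), c.add, hμ u hu, hμ v hv]
  have hcen : ∀ a ∈ T, ∀ v ∈ V, v * a = a * v := fun a ha => hT.le ha
  let Q : T → ZMod 2 := fun a => μ (a * a) 0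
  let B : T → T → ZMod 2 := fun a b => μ ⁅(a : G)⁻¹, (b : G)⁆ 0
  have hBV : ∀ a b : T, ⁅(a : G)⁻¹, (b : G)⁆ ∈ V := fun a b => hs.comm _ (T.inv_mem a.2) _ b.2
  have hQ : ∀ a b, Q (a * b) = Q a + Q b + B a b := fun a b => by
    have : ((a * b : T) : G) * (a * b : T) = a * a * ⁅(a : G)⁻¹, (b : G)⁆ * (b * b) := by
      simp only [commutatorElement_def, Subgroup.coe_mul]
      group
    simp only [Q, B, this]
    rw [hμ2 _ (V.mul_mem (hs.sq _ a.2) (hBV a b)) _ (hs.sq _ b.2), hμ2 _ (hs.sq _ a.2) _ (hBV a b)]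
    simp only [Pi.add_apply]
    ring
  have hB : ∀ a b b', B a (b * b') = B a b + B a b' := fun a b b' => by
    have : ⁅(a : G)⁻¹, ((b * b' : T) : G)⁆ = ⁅(a : G)⁻¹, (b : G)⁆ * ⁅(a : G)⁻¹, (b' : G)⁆ := by
      rw [← mul_inv_cancel_right (_ * ⁅(a : G)⁻¹, (b' : G)⁆) b, mul_assoc _ _ (b : G), hcen b b.2 _ (hBV a b')]
      simp only [commutatorElement_def, Subgroup.coe_mul]
      group
    simp only [B, this]
    rw [hμ2 _ (hBV a b) _ (hBV a b'), Pi.add_apply]
  have hXQ : ∀ y ∈ X, Q y = 0 := fun y hy => hxι (μ (y * y)) (by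
    have h1 := hX y hy
    rw [hμ _ (hs.sq _ y.2)]
    calc _ = ⁅x, (y : G)⁆ * (y * ⁅x, (y : G)⁆) * y := by
          simp only [commutatorElement_def]
          group
      _ = _ := by rw [← hcen y y.2 _ h1, ← mul_assoc, h.sq h1, one_mul])
  have hq : ∀ (a : T) m, μ (a * a) = m ↔ (a : G) * a = ι m := fun a m =>
    ⟨fun e => by rw [← e, hμ _ (hs.sq _ a.2)], fun e => by rw [e, hμ']⟩
  obtain ⟨n, hn⟩ : ∃ n, ∀ m, #{a : T | μ (a * a) = m} = if m = 0 then 8 else n := by
    refine ⟨#{a : T | μ (a * a) = 1}, fun m => ?_⟩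
    split_ifs with e
    · rw [← h8, ← Nat.card_congr (subgroupOfEquivOfLe hVT).toEquiv, ← Fintype.card_subtype,
        ← Nat.card_eq_fintype_card]
      exact Nat.card_congr (Equiv.subtypeEquivRight fun a => by rw [hq, e, c.zero, ← h.mem]; rfl)
    · obtain ⟨g, hg⟩ := h.conj _ (c.mem' m) _ (c.mem' 1) (fun k => e (c.eq_one_iff.1 k))
        fun k => absurd (c.eq_one_iff.1 k) (by decide)
      refine card_equiv (MulAut.conjNormal g : MulAut T).toEquiv fun a => ?_
      simp only [mem_filter, mem_univ, true_and, hq, MulEquiv.toEquiv_eq_coe, EquivLike.coe_coe,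
        MulAut.conjNormal_apply, conj_mul, ← hg, mul_left_inj, mul_right_inj]
  have h1 : ∀ (P : ZMod 2 → Prop) [DecidablePred P], #{a : T | P (Q a)} =
      ∑ m : Fin 3 → ZMod 2 with P (m 0), if m = 0 then 8 else n := fun P _ => by
    rw [card_eq_sum_card_fiberwise (f := fun a : T => μ (a * a)) (t := {m : Fin 3 → ZMod 2 | P (m 0)}) (by
      intro a ha; simpa using ha)]
    refine sum_congr rfl fun m hm => ?_
    rw [← hn, filter_filter]
    exact congrArg _ (filter_congr fun a _ => ⟨fun e => e.2, fun e => ⟨by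
      simp only [Q, e]; simpa using hm, e⟩⟩)
  have h2 : #{a : T | Q a = 0} = 8 + 3 * n := by
    rw [h1 (· = 0), sum_ite, sum_const, sum_const]
    exact congrArg₂ (· + ·) (by decide) (congrArg (· * n) (by decide))
  have h3 : #{a : T | Q a ≠ 0} = 4 * n := by
    rw [h1 (· ≠ 0), sum_ite, sum_const, sum_const, ← zero_add (4 * n)]
    exact congrArg₂ (· + ·) (by decide) (congrArg (· * n) (by decide))
  have h4 := card_filter_add_card_filter_not (s := univ) fun a : T => Q a = 0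
  rw [h2, h3, card_univ, ← Nat.card_eq_fintype_card] at h4
  obtain ⟨e, he⟩ := (hT.pgroup.to_subgroup X).exists_card_eq
  rw [h8] at hXc
  rcases hs.card with h5 | h5 <;> rw [h8] at h5
  · have h6 : 32 ≤ Nat.card X := by
      rw [he] at hXc ⊢
      by_contra hlt
      have : e < 5 := (Nat.pow_lt_pow_iff_right (by norm_num)).1 (show 2 ^ e < 2 ^ 5 by omega)
      interval_cases e <;> omega
    have h7 : univ.filter (· ∈ X) = univ.filter (Q · = 0) := by
      refine eq_of_subset_of_card_le (fun a ha => mem_filter.2 ⟨mem_univ _, hXQ a (mem_filter.1 ha).2⟩) ?_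
      rw [← Fintype.card_subtype (· ∈ X), ← Nat.card_eq_fintype_card]
      omega
    have h9 : ∀ a, a ∈ X ↔ Q a = 0 := fun a => by simpa using Finset.ext_iff.1 h7 a
    have h10 : X.index = 2 := by
      have := card_mul_index X
      have h11 := congrArg Finset.card h7
      rw [← Fintype.card_subtype (· ∈ X), ← Nat.card_eq_fintype_card, h2] at h11
      rw [h11, h5, show n = 8 by omega] at this
      omega
    have h11 : ∀ a b, B a b = 0 := fun a b => by
      have := mul_mem_iff_of_index_two h10 (a := a) (b := b)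
      rw [h9, h9, h9, hQ] at this
      revert this
      generalize Q a = s, Q b = t, B a b = u
      revert s t u
      decide
    intro b hb a ha
    by_contra hne
    obtain ⟨g, hg⟩ := h.conj _ (hBV ⟨a, ha⟩ ⟨b, hb⟩) _ (c.mem' 1)
      (fun k => hne (Commute.inv_left_iff.1 (commutatorElement_eq_one_iff_commute.1 k)))
      fun k => absurd (c.eq_one_iff.1 k) (by decide)
    have h12 := h11 (MulAut.conjNormal g ⟨a, ha⟩) (MulAut.conjNormal g ⟨b, hb⟩)
    simp only [B, MulAut.conjNormal_apply] at h12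
    rw [conj_inv, ← conjugate_commutatorElement, hg, hμ'] at h12
    exact absurd h12 (by decide)
  · exfalso
    obtain ⟨i, j, hi, h6, h7, h9⟩ := ab3_quad Q B hQ hB X hXQ
    have h10 : 64 ∣ i := by
      refine Dvd.dvd.trans ?_ h6
      rw [he] at hXc ⊢
      refine pow_dvd_pow 2 (show 6 ≤ e from ?_)
      by_contra hlt
      have : e < 6 := by omega
      interval_cases e <;> omega
    obtain ⟨a, rfl⟩ := h10
    rw [h2, h3, show n = 72 by omega] at h9
    rw [h5, show 64 * a + j = 64 * (2 * a + 1) by omega, show 8 ^ 3 = 64 * 8 by norm_num] at h7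
    have h11 := Nat.dvd_of_mul_dvd_mul_left (by norm_num) h7
    have h12 := Nat.le_of_dvd (by norm_num) h11
    have : a ≤ 3 := by omega
    interval_cases a <;> omega

end CfsgLib.PkI
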