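import Cfsg.Agent.Lib.PkI.Defs
import Cfsg.Agent.Lib.Coprime.SchurZassenhaus

/-! Rank at least four (plans/PKI2.md) -/

set_option autoImplicit false

namespace CfsgLib.PkI

open Subgroup CfsgLib.Tech
open scoped commutatorElement

variable {G : Type*} [Group G] [Finite G] {V T : Subgroup G} {p k : ℕ}

theorem mem_of_odd_pow {L : Subgroup G} {y : G} {a b : ℕ} (hab : a.Coprime b) (ha : y ^ a = 1) (hb : y ^ b ∈ L) :
    y ∈ L := by
  have h1 : (orderOf y).Coprime b := Nat.Coprime.coprime_dvd_left (orderOf_dvd_of_pow_eq_one ha) hab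
  obtain ⟨m, hm⟩ := exists_pow_eq_self_of_coprime (x := y) (n := b) h1.symm
  exact hm ▸ pow_mem hb m

theorem Pyr.lift (h : Pyr V) [T.Normal] (hTC : T ≤ Cz V) (hVT : V ≤ T) {L : Subgroup G} (hT : IsSylowIn 2 T L)
    (hfix : ∀ v ∈ V, (∀ g ∈ L, g * v * g⁻¹ = v) → v = 1) {x : G} (hx : x ∈ normalizer (L : Set G))
    (hx2 : x * x ∈ L) : x ∈ L := by
  have hTn : normalizer (T : Set G) = ⊤ := normalizer_eq_top T
  obtain ⟨e, he⟩ := hT.pgroup.exists_card_eq
  have hcop : (Nat.card T).Coprime (T.relIndex L) := by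
    rw [he]
    exact Nat.Coprime.pow_left _ ((Nat.prime_two.coprime_iff_not_dvd).2 hT.3)
  obtain ⟨K, hKL, hd, hs, hc⟩ := Coprime.exists_complement_of_le_normalizer hT.le (hTn ▸ le_top) hcop
  obtain ⟨t, ht, hle⟩ := Coprime.exists_conj_smul_le_of_le_sup (K := T) (A := cj x K) (S := K) (hTn ▸ le_top)
    (by rw [hs, cj_le_iff]; exact fun g hg => conj_mem_of_mem_normalizer hx (hKL hg))
    (by rw [card_cj, hc]; exact hcop.symm) (Or.inr (have := hT.pgroup.isNilpotent; inferInstance))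
  rw [smul_eq_cj, ← cj_mul] at hle
  have hy := mem_normalizer_of_cj_le hle
  by_contra hxL
  have hy2 : (t * x) ^ 2 ∈ L := by
    have : (t * x) ^ 2 = t * (x * t * x⁻¹) * (x * x) := by rw [pow_two]; group
    rw [this]
    exact mul_mem (mul_mem (hT.le ht) (conj_mem_of_mem_normalizer hx (hT.le ht))) hx2
  have hev : 2 ∣ orderOf (t * x) := by
    by_contra hn
    have := mem_of_odd_pow ((Nat.prime_two.coprime_iff_not_dvd).2 hn).symm (pow_orderOf_eq_one _) hy2
    exact hxL ((mul_mem_cancel_left (hT.le ht)).1 this)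
  obtain ⟨j, hj, hj1⟩ := h.exists_pow' hev
  set v := (t * x) ^ j
  have hv : v ∈ normalizer (K : Set G) := pow_mem hy j
  refine hj1 (hfix v hj fun g hg => ?_)
  have : L ≤ centralizer ({v} : Set G) := by
    rw [← hs]
    refine sup_le (fun a ha => ?_) fun a ha => ?_
    · rw [mem_centralizer_singleton_iff]
      exact (hTC ha v hj).symm
    · rw [mem_centralizer_singleton_iff]
      have h1 : v * a * v⁻¹ * a⁻¹ ∈ T ⊓ K :=
        mem_inf.2 ⟨hVT (by
          rw [mul_assoc, mul_assoc]; exact mul_mem hj (by rw [← mul_assoc]; exact h.conj_mem (inv_mem hj) a)),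
          mul_mem (conj_mem_of_mem_normalizer hv ha) (inv_mem ha)⟩
      rw [hd, mem_bot, mul_inv_eq_one, mul_inv_eq_iff_eq_mul] at h1
      exact h1.symm
  rw [mul_inv_eq_iff_eq_mul]
  exact mem_centralizer_singleton_iff.1 (this hg)

/-- the elements acting as a pair of scalars -/
def scal {E F : Type*} [Field E] [Field F] (ι : E × F → G) : Subgroup G where
  carrier := {g | ∃ (a : Eˣ) (b : Fˣ), ∀ u w, g * ι (u, w) * g⁻¹ = ι (a * u, b * w)}
  one_mem' := ⟨1, 1, fun u w => by simp⟩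
  mul_mem' := fun {g k} ⟨a, b, hg⟩ ⟨c, d, hk⟩ => ⟨a * c, b * d, fun u w => by
    rw [Units.val_mul, Units.val_mul, mul_assoc (a : E), mul_assoc (b : F), ← hg, ← hk]; group⟩
  inv_mem' := fun {g} ⟨a, b, hg⟩ => ⟨a⁻¹, b⁻¹, fun u w => by
    have := hg ((a⁻¹ : Eˣ) * u) ((b⁻¹ : Fˣ) * w)
    rw [Units.mul_inv_cancel_left, Units.mul_inv_cancel_left] at this
    rw [← this]; group⟩

theorem Pyr.big' (h : Pyr V) {E F : Type*} [Field E] [Field F] [Finite E] [Finite F] [CharP E 2]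
    (hE : Nat.card E = 4) (hF : 2 < Nat.card F) (hF2 : Even (Nat.card F)) {ι : E × F → G} (c : Coord V ι) [T.Normal]
    (hT : IsSylowIn 2 T (Cz V)) : False := by
  have hCL : Cz V ≤ scal ι := fun g hg => ⟨1, 1, fun u w => by simpa using c.mem_Cz.1 hg _⟩
  have hS : IsSylowIn 2 T (scal ι) := by
    refine isSylowIn_of_maximal hT.pgroup (hT.le.trans hCL) fun R hR hTR hRL => (hT.eq_of_le hR hTR fun g hg => ?_).le
    obtain ⟨e, he⟩ := isPGroup_iff_mem.1 hR g hg
    obtain ⟨a, b, hab⟩ := hRL hg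
    have hp : ∀ m : ℕ, ∀ u w, g ^ m * ι (u, w) * (g ^ m)⁻¹ = ι ((a ^ m : Eˣ) * u, (b ^ m : Fˣ) * w) := by
      intro m
      induction m with
      | zero => simp
      | succ m ih =>
        intro u w
        rw [pow_succ' a, pow_succ' b, Units.val_mul, Units.val_mul, mul_assoc (a : E), mul_assoc (b : F), ← hab, ← ih,
          pow_succ']
        group
    refine mem_of_odd_pow (b := Nat.card Eˣ * Nat.card Fˣ) ?_ he (c.mem_Cz.2 fun ⟨u, w⟩ => ?_)
    · refine Nat.Coprime.pow_left _ ((Nat.prime_two.coprime_iff_not_dvd).2 fun k => ?_)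
      rw [Nat.card_units, Nat.card_units, hE] at k
      obtain ⟨r, hr⟩ := hF2
      rw [hr] at k hF
      omega
    · rw [hp, pow_mul a, pow_card_eq_one', one_pow, pow_mul' b, pow_card_eq_one', one_pow]
      simp
  obtain ⟨a, ha⟩ : ∃ a : Eˣ, a ≠ 1 := by
    have : Nontrivial Eˣ := Finite.one_lt_card_iff_nontrivial.1 (by rw [Nat.card_units]; omega)
    exact exists_ne 1
  obtain ⟨b, hb⟩ : ∃ b : Fˣ, b ≠ 1 := by
    have : Nontrivial Fˣ := Finite.one_lt_card_iff_nontrivial.1 (by rw [Nat.card_units]; omega)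
    exact exists_ne 1
  have h4 : ∀ u : E, (u ^ 2) ^ 2 = u := fun u => by
    have := Fintype.ofFinite E
    rw [← pow_mul, show 2 * 2 = Fintype.card E by rw [← Nat.card_eq_fintype_card, hE], FiniteField.pow_card]
  let φ : E ≃+ E :=
    { toFun := fun u => u ^ 2, invFun := fun u => u ^ 2, left_inv := h4, right_inv := h4
      map_add' := fun u w => add_pow_char u w 2 }
  obtain ⟨x, hx⟩ := c.full (φ.prodCongr (AddEquiv.refl F))
  replace hx : ∀ u w, x * ι (u, w) * x⁻¹ = ι (u ^ 2, w) := fun u w => hx (u, w)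
  have hx' : ∀ u w, x⁻¹ * ι (u, w) * x = ι (u ^ 2, w) := fun u w => by
    have := hx (u ^ 2) w
    rw [h4] at this
    rw [← this]; group
  have key : x ∈ scal ι := by
    refine h.lift hT.le (h.le_syl hT) hS (fun v hv hc => ?_) (mem_normalizer_of_forall ?_) ⟨1, 1, fun u w => ?_⟩
    · obtain ⟨⟨u, w⟩, rfl⟩ := (c.mem v).1 hv
      obtain ⟨g, hg⟩ := c.full ((a.mulLeftLinearEquiv E E).toAddEquiv.prodCongr (b.mulLeftLinearEquiv F F).toAddEquiv)
      replace hg : ∀ u w, g * ι (u, w) * g⁻¹ = ι (a * u, b * w) := fun u w => hg (u, w)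
      have := c.inj ((hg u w).symm.trans (hc g ⟨a, b, hg⟩))
      rw [Prod.mk.injEq, mul_left_eq_self₀, mul_left_eq_self₀, Units.val_eq_one, Units.val_eq_one] at this
      rw [this.1.resolve_left ha, this.2.resolve_left hb]
      exact c.zero
    · rintro g ⟨a, b, hg⟩
      refine ⟨a ^ 2, b, fun u w => ?_⟩
      have : x * g * x⁻¹ * ι (u, w) * (x * g * x⁻¹)⁻¹ = x * (g * (x⁻¹ * ι (u, w) * x) * g⁻¹) * x⁻¹ := by group
      rw [this, hx', hg, hx, mul_pow, h4, Units.val_pow_eq_pow_val]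
    · have : x * x * ι (u, w) * (x * x)⁻¹ = x * (x * ι (u, w) * x⁻¹) * x⁻¹ := by group
      rw [this, hx, hx, h4]
      simp
  obtain ⟨a', b', k⟩ := key
  have k1 := c.inj ((hx 1 0).symm.trans (k 1 0))
  have k2 := c.inj ((hx a 0).symm.trans (k a 0))
  rw [Prod.mk.injEq] at k1 k2
  have e1 : (a' : E) = 1 := by simpa using k1.1.symm
  have e2 := k2.1
  rw [e1, one_mul, pow_two, mul_left_eq_self₀, Units.val_eq_one] at e2
  exact e2.elim ha a.ne_zero

theorem Pyr.big (h : Pyr V) (hf : Full V) (h16 : 16 ≤ Nat.card V) [T.Normal] (hT : IsSylowIn 2 T (Cz V)) : False := by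
  obtain ⟨n, hn⟩ := h.exists_card
  have h4 : 4 ≤ n := by
    by_contra k
    have : 2 ^ n ≤ 2 ^ 3 := Nat.pow_le_pow_right two_pos (by omega)
    omega
  obtain ⟨m, rfl⟩ : ∃ m, n = 2 + (m + 2) := ⟨n - 4, by omega⟩
  have e1 := GaloisField.card 2 2 two_ne_zero
  have e2 := GaloisField.card 2 (m + 2) (by omega)
  obtain ⟨ι, c⟩ := h.coord hf (GaloisField 2 2 × GaloisField 2 (m + 2)) (by rw [Nat.card_prod, e1, e2, hn, ← pow_add])
  refine h.big' e1 ?_ ?_ c hT
  · rw [e2, pow_add]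
    have := Nat.one_le_two_pow (n := m)
    omega
  · rw [e2, pow_succ]
    exact even_two.mul_left _

end CfsgLib.PkI
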