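import Cfsg.Agent.Lib.Tech.SylowIn

/-! Groups whose involutions form one class of prime power size: vocabulary (plans/PKI2.md). -/

set_option autoImplicit false

namespace CfsgLib.PkI

open Subgroup CfsgLib.Tech
open scoped commutatorElement

variable {G : Type*} [Group G] {V T N : Subgroup G} {x y : G}

/-- the involutions of `G` are the non-trivial elements of `V`, and they are all conjugate -/
structure Pyr (V : Subgroup G) : Prop where
  mem : ∀ x, x ∈ V ↔ x * x = 1
  conj : ∀ x ∈ V, ∀ y ∈ V, x ≠ 1 → y ≠ 1 → ∃ g, g * x * g⁻¹ = y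

/-- `C_G(V)` -/
abbrev Cz (V : Subgroup G) : Subgroup G := centralizer (V : Set G)

/-- every automorphism of `V` is induced by `G` -/
def Full (V : Subgroup G) : Prop := ∀ φ : MulAut V, ∃ g : G, ∀ v : V, g * v * g⁻¹ = φ v

/-- Higman's conclusion -/
structure Sz (V T : Subgroup G) : Prop where
  sq : ∀ a ∈ T, a * a ∈ V
  comm : ∀ a ∈ T, ∀ b ∈ T, ⁅a, b⁆ ∈ V
  card : Nat.card T = Nat.card V ^ 2 ∨ Nat.card T = Nat.card V ^ 3

/-- coordinates on `V` in which every additive automorphism is induced by `G` -/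
structure Coord (V : Subgroup G) {M : Type*} [AddCommGroup M] (ι : M → G) : Prop where
  add : ∀ a b, ι (a + b) = ι a * ι b
  inj : Function.Injective ι
  mem : ∀ x, x ∈ V ↔ ∃ a, ι a = x
  full : ∀ f : M ≃+ M, ∃ g : G, ∀ a, g * ι a * g⁻¹ = ι (f a)

theorem mem_Cz : x ∈ Cz V ↔ ∀ v ∈ V, v * x = x * v := Iff.rfl

theorem mem_Cz' : x ∈ Cz V ↔ ∀ v ∈ V, x * v * x⁻¹ = v :=
  forall₂_congr fun _ _ => by rw [mul_inv_eq_iff_eq_mul, eq_comm]

namespace Pyr

variable (h : Pyr V)
include h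

theorem sq (hx : x ∈ V) : x * x = 1 := (h.mem x).1 hx

theorem inv_eq (hx : x ∈ V) : x⁻¹ = x := inv_eq_of_mul_eq_one_right (h.sq hx)

theorem normal : V.Normal := ⟨fun v hv g => (h.mem _).2 (by rw [conj_mul, h.sq hv]; simp)⟩

theorem conj_mem (hx : x ∈ V) (g : G) : g * x * g⁻¹ ∈ V := h.normal.conj_mem x hx g

theorem comm (hx : x ∈ V) (hy : y ∈ V) : x * y = y * x := by
  rw [← h.inv_eq (mul_mem hx hy), mul_inv_rev, h.inv_eq hx, h.inv_eq hy]

theorem two : IsPGroup 2 V := isPGroup_iff_mem.2 fun x hx => ⟨1, by rw [pow_one, pow_two, h.sq hx]⟩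

theorem le_Cz : V ≤ Cz V := fun _ hx _ hy => h.comm hy hx

theorem Cz_normal : (Cz V).Normal := have := h.normal; inferInstance

theorem orderOf_eq (hx : x ∈ V) (h1 : x ≠ 1) : orderOf x = 2 :=
  orderOf_eq_prime (by rw [pow_two, h.sq hx]) h1

theorem mem_of_orderOf (hx : orderOf x = 2) : x ∈ V :=
  (h.mem x).2 (by rw [← pow_two, ← hx, pow_orderOf_eq_one])

/-- a normal subgroup containing one involution contains `V` -/
theorem le_of_mem [hN : N.Normal] (hx : x ∈ V) (h1 : x ≠ 1) (hxN : x ∈ N) : V ≤ N := fun y hy => by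
  by_cases e : y = 1
  · exact e ▸ one_mem _
  obtain ⟨g, rfl⟩ := h.conj x hx y hy h1 e
  exact hN.conj_mem x hxN g

/-- a non-trivial `2`-element has a non-trivial power in `V` -/
theorem exists_pow {k : ℕ} (hx : x ^ 2 ^ k = 1) (h1 : x ≠ 1) : ∃ j, x ^ 2 ^ j ∈ V ∧ x ^ 2 ^ j ≠ 1 := by
  induction k with
  | zero => exact absurd (by simpa using hx) h1
  | succ k ih =>
    by_cases e : x ^ 2 ^ k = 1
    · exact ih e
    · exact ⟨k, (h.mem _).2 (by rw [← pow_two, ← pow_mul, ← pow_succ, hx]), e⟩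

/-- an element of even order has a non-trivial power in `V` -/
theorem exists_pow' [Finite G] (hx : 2 ∣ orderOf x) : ∃ j, x ^ j ∈ V ∧ x ^ j ≠ 1 := by
  obtain ⟨j, e⟩ := hx
  have := orderOf_pos x
  refine ⟨j, (h.mem _).2 (by rw [← pow_add, ← two_mul, ← e, pow_orderOf_eq_one]), fun k => ?_⟩
  have := Nat.le_of_dvd (by omega) (orderOf_dvd_of_pow_eq_one k)
  omega

theorem le_syl [Finite G] (hT : IsSylowIn 2 T (Cz V)) : V ≤ T :=
  have := h.normal
  hT.le_of_le_normalizer h.two h.le_Cz (by rw [normalizer_eq_top]; exact le_top)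

theorem exists_card [Finite G] : ∃ n, Nat.card V = 2 ^ n := h.two.exists_card_eq

theorem coord [Finite G] (hf : Full V) (M : Type*) [AddCommGroup M] [Module (ZMod 2) M] [Finite M]
    (hc : Nat.card M = Nat.card V) : ∃ ι : M → G, Coord V ι := by
  let : CommGroup V := { (inferInstance : Group V) with mul_comm := fun a b => Subtype.ext (h.comm a.2 b.2) }
  let : Module (ZMod 2) (Additive V) := AddCommGroup.zmodModule fun a => by
    rw [two_nsmul]
    exact Subtype.ext (h.sq a.toMul.2)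
  have e : Module.finrank (ZMod 2) M = Module.finrank (ZMod 2) (Additive V) := by
    rw [← Nat.card_congr (Additive.toMul (α := V)), Module.natCard_eq_pow_finrank (K := ZMod 2),
      Module.natCard_eq_pow_finrank (K := ZMod 2) (V := Additive V), Nat.card_zmod] at hc
    exact Nat.pow_right_injective le_rfl hc
  let f := (LinearEquiv.ofFinrankEq M (Additive V) e).toAddEquiv
  refine ⟨fun a => (f a).toMul, fun a b => by rw [map_add]; rfl,
    fun a b k => f.injective (Additive.toMul.injective (Subtype.ext k)),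
    fun x => ⟨fun hx => ⟨f.symm (Additive.ofMul ⟨x, hx⟩), by simp⟩, fun ⟨a, k⟩ => k ▸ (f a).toMul.2⟩, fun u => ?_⟩
  obtain ⟨g, hg⟩ := hf (MulEquiv.toAdditive.symm ((f.symm.trans u).trans f))
  exact ⟨g, fun a => by rw [hg]; simp⟩

end Pyr

namespace Coord

variable {M : Type*} [AddCommGroup M] {ι : M → G} (c : Coord V ι)
include c

theorem zero : ι 0 = 1 := mul_left_cancel (a := ι 0) (by rw [← c.add, add_zero, mul_one])

theorem eq_one_iff {a : M} : ι a = 1 ↔ a = 0 := by rw [← c.zero, c.inj.eq_iff]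

theorem mem' (a : M) : ι a ∈ V := (c.mem _).2 ⟨a, rfl⟩

theorem mem_Cz : x ∈ Cz V ↔ ∀ a, x * ι a * x⁻¹ = ι a :=
  mem_Cz'.trans ⟨fun k a => k _ (c.mem' a), fun k v hv => by obtain ⟨a, rfl⟩ := (c.mem v).1 hv; exact k a⟩

end Coord

end CfsgLib.PkI
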