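import Cfsg.Agent.Lib.PkI.Defs
import Cfsg.Agent.Lib.Coprime.Action
import Cfsg.Agent.Lib.Core.MinNormal

/-! An involution of the derived group acting on a normal `p`-subgroup (plans/PKI2.md) -/

set_option autoImplicit false

namespace CfsgLib.PkI

open Subgroup CfsgLib.Tech
open scoped commutatorElement

universe u

theorem det_even {K W : Type*} [Field K] [AddCommGroup W] [Module K W] [FiniteDimensional K W]
    (h2 : (-1 : K) ≠ 1) {f : W →ₗ[K] W} (hf : ∀ v, f (f v) = v) (hd : f.det = 1) :
    Even (Module.finrank K (W ⧸ LinearMap.ker (f - LinearMap.id))) := by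
  have he : LinearMap.ker (f - LinearMap.id) ≤ (LinearMap.ker (f - LinearMap.id)).comap f := fun v hv => by
    have : f v = v := by simpa [sub_eq_zero] using hv
    simp [this]
  have h1 : f.restrict he = LinearMap.id := LinearMap.ext fun v => Subtype.ext
    (sub_eq_zero.1 (LinearMap.mem_ker.1 v.2))
  have h3 : (LinearMap.ker (f - LinearMap.id)).mapQ _ f he = (-1 : K) • LinearMap.id := by
    refine LinearMap.ext fun x => ?_
    induction x using Submodule.Quotient.induction_on with
    | _ w =>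
      rw [Submodule.mapQ_apply, LinearMap.smul_apply, LinearMap.id_apply, ← Submodule.Quotient.mk_smul,
        Submodule.Quotient.eq]
      simp [hf, add_comm]
  rw [LinearMap.det_eq_det_mul_det _ f he, h1, h3, LinearMap.det_smul, LinearMap.det_id, LinearMap.det_id,
    one_mul, mul_one] at hd
  exact (neg_one_pow_eq_one_iff_even h2).1 hd

theorem det_mod {G W : Type*} [Group G] {p : ℕ} [Fact p.Prime] (hp2 : p ≠ 2) [AddCommGroup W] [Module (ZMod p) W]
    [Finite W] (φ : G → W →+ W) (h1 : ∀ a, φ 1 a = a) (hm : ∀ g g' a, φ (g * g') a = φ g (φ g' a)) {t : G}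
    (ht : t * t = 1) (hc : t ∈ commutator G) : ∃ j, Nat.card W = Nat.card {a // φ t a = a} * p ^ (2 * j) := by
  have hp : p.Prime := Fact.out
  let δ : G →* ZMod p :=
    { toFun := fun g => ((φ g).toZModLinearMap p).det
      map_one' := by
        rw [show (φ 1).toZModLinearMap p = LinearMap.id from LinearMap.ext h1, LinearMap.det_id]
      map_mul' := fun g g' => by
        rw [← LinearMap.det_comp]
        congr 1
        exact LinearMap.ext (hm g g') }
  have h3 : ((φ t).toZModLinearMap p).det = 1 :=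
    congrArg Units.val (Abelianization.commutator_subset_ker δ.toHomUnits hc)
  have h2 : (-1 : ZMod p) ≠ 1 := by
    have : Fact (2 < p) := ⟨lt_of_le_of_ne hp.two_le hp2.symm⟩
    exact ZMod.neg_one_ne_one
  obtain ⟨j, hj⟩ := det_even h2 (fun v => (hm t t v).symm.trans (ht ▸ h1 v)) h3
  refine ⟨j, ?_⟩
  have h4 := Submodule.card_eq_card_quotient_mul_card (LinearMap.ker ((φ t).toZModLinearMap p - LinearMap.id))
  rw [Module.natCard_eq_pow_finrank (K := ZMod p) (V := _ ⧸ _), Nat.card_zmod, hj, ← two_mul] at h4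
  rw [h4]
  congr 1
  exact Nat.card_congr (Equiv.subtypeEquivRight fun a => LinearMap.mem_ker.trans sub_eq_zero)

theorem det_elem {G : Type*} [Group G] [Finite G] {p : ℕ} (hp : p.Prime) (hp2 : p ≠ 2) {M : Subgroup G} [M.Normal]
    (hM : Cfsg.IsElementaryAbelian p M) {t : G} (ht : t * t = 1) (hc : t ∈ commutator G) :
    ∃ j, Nat.card M = Nat.card (M ⊓ centralizer {t} : Subgroup G) * p ^ (2 * j) := by
  have := Fact.mk hp
  let : CommGroup M := { (inferInstance : Group M) with mul_comm := hM.1.1.1 }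
  let : Module (ZMod p) (Additive M) := AddCommGroup.zmodModule fun a => by
    apply Additive.toMul.injective
    rw [toMul_nsmul]
    exact Subtype.ext (hM.2 _ a.toMul.2)
  obtain ⟨j, hj⟩ := det_mod (W := Additive M) hp2
    (fun g => MonoidHom.toAdditive (MulAut.conjNormal g : MulAut M).toMonoidHom) (fun a => by simp)
    (fun g g' a => by simp) ht hc
  refine ⟨j, (Nat.card_congr (Additive.toMul (α := M))).symm.trans (hj.trans ?_)⟩
  congr 1
  exact Nat.card_congr ⟨fun a => ⟨a.1.toMul, a.1.toMul.2, mem_centralizer_singleton_iff.2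
      (mul_inv_eq_iff_eq_mul.1 (congrArg (fun b : Additive M => (b.toMul : G)) a.2)).symm⟩,
    fun a => ⟨Additive.ofMul ⟨a.1, a.2.1⟩, congrArg Additive.ofMul (Subtype.ext
      (mul_inv_eq_iff_eq_mul.2 (mem_centralizer_singleton_iff.1 a.2.2).symm))⟩, fun _ => rfl, fun _ => rfl⟩

theorem det_card_map {G H : Type*} [Group G] [Group H] (f : G →* H) (K : Subgroup G) :
    Nat.card K = Nat.card (K.map f) * Nat.card (K ⊓ f.ker : Subgroup G) := by
  rw [← relIndex_ker, ← inf_relIndex_right, mul_comm, inf_comm K,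
    ← Nat.card_congr (subgroupOfEquivOfLe (inf_le_right : f.ker ⊓ K ≤ K)).toEquiv, relIndex, card_mul_index]

theorem det_aux {p : ℕ} (hp : p.Prime) (hp2 : p ≠ 2) (n : ℕ) : ∀ (G : Type u) [Group G] [Finite G] (P : Subgroup G)
    [P.Normal], Nat.card P = n → IsPGroup p P → ∀ t : G, t * t = 1 → t ∈ commutator G →
      ∃ j, Nat.card P = Nat.card (P ⊓ centralizer {t} : Subgroup G) * p ^ (2 * j) := by
  induction n using Nat.strong_induction_on with
  | _ n ih =>
  intro G _ _ P _ hn hP t ht hc
  have := Fact.mk hp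
  by_cases h0 : P = ⊥
  · exact ⟨0, by simp [h0]⟩
  have := CfsgLib.Coprime.isSolvable_of_isPGroup hP
  obtain ⟨q, M, hq, hM, hM0, hMP, hMe, -⟩ := Core.exists_elementaryAbelian_minimal_normal_le h0
  obtain rfl : p = q := by
    obtain ⟨⟨a, ha⟩, h1⟩ := ne_bot_iff_exists_ne_one.1 hM0
    obtain ⟨k, hk⟩ := hP ⟨a, hMP ha⟩
    have := Fact.mk hq
    have h2 : orderOf a = q := orderOf_eq_prime (hMe.2 a ha) fun e => h1 (Subtype.ext e)
    have h3 : q ∣ p ^ k := h2 ▸ orderOf_dvd_of_pow_eq_one (congrArg Subtype.val hk)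
    exact ((Nat.prime_dvd_prime_iff_eq hq hp).1 (hq.dvd_of_dvd_pow h3)).symm
  obtain ⟨j, hj⟩ := det_elem hp hp2 hMe ht hc
  have h1 := det_card_map (QuotientGroup.mk' M) P
  have h2 := det_card_map (QuotientGroup.mk' M) (P ⊓ centralizer {t})
  rw [QuotientGroup.ker_mk'] at h1 h2
  rw [inf_eq_right.2 hMP] at h1
  rw [inf_right_comm, inf_eq_right.2 hMP] at h2
  have h3 : 1 < Nat.card M := (one_lt_card_iff_ne_bot M).2 hM0
  have : (P.map (QuotientGroup.mk' M)).Normal := Normal.map ‹_› _ (QuotientGroup.mk'_surjective M)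
  obtain ⟨j', hj'⟩ := ih _ (by
      rw [← hn, h1]
      exact lt_mul_of_one_lt_right Nat.card_pos h3) (G ⧸ M) (P.map (QuotientGroup.mk' M)) rfl (hP.map _)
    (QuotientGroup.mk' M t) (by rw [← map_mul, ht, map_one]) (by
      rw [commutator_def, ← map_top_of_surjective _ (QuotientGroup.mk'_surjective M), ← map_commutator]
      exact mem_map_of_mem _ hc)
  have h4 := CfsgLib.Coprime.map_inf_centralizer (QuotientGroup.mk' M) (K := P) (A := zpowers t)
    le_normalizer_of_normal (by
      obtain ⟨k, hk⟩ := (hP.to_inf_left (K := (QuotientGroup.mk' M).ker)).exists_card_eq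
      rw [hk, Nat.card_zpowers]
      exact (((Nat.coprime_primes Nat.prime_two hp).2 hp2.symm).pow_right k).coprime_dvd_left
        (orderOf_dvd_of_pow_eq_one (by rw [pow_two, ht]))) (Or.inl (CfsgLib.Coprime.isSolvable_zpowers t))
  rw [MonoidHom.map_zpowers, Core.centralizer_zpowers, Core.centralizer_zpowers] at h4
  refine ⟨j + j', ?_⟩
  rw [h1, h2, h4, hj, hj']
  ring

variable {G : Type*} [Group G] [Finite G] {V T : Subgroup G} {p k : ℕ}

theorem even_of_mem_commutator (hp : p.Prime) (hp2 : p ≠ 2) {P : Subgroup G} [P.Normal] (hP : IsPGroup p P) {t : G}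
    (ht : t * t = 1) (hc : t ∈ commutator G) (hk : (centralizer ({t} : Set G)).relIndex P = p ^ k) : Even k := by
  obtain ⟨j, hj⟩ := det_aux hp hp2 _ G P rfl hP t ht hc
  have h1 := card_mul_index ((centralizer {t} ⊓ P).subgroupOf P)
  rw [Nat.card_congr (subgroupOfEquivOfLe inf_le_right).toEquiv, ← relIndex, inf_relIndex_right, hk, hj,
    inf_comm] at h1
  exact ⟨j, by rw [Nat.pow_right_injective hp.two_le (Nat.eq_of_mul_eq_mul_left Nat.card_pos h1), two_mul]⟩

end CfsgLib.PkI
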