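import Cfsg.Agent.Lib.PkI.Defs
import Cfsg.Agent.Lib.SL2.Basic
import Cfsg.Agent.Lib.Dickson.MinSimple

/-! The groups `q² : SL₂(q)` (plans/PKI2.md) -/

set_option autoImplicit false

namespace CfsgLib.PkI

open Subgroup CfsgLib.Tech
open scoped commutatorElement MatrixGroups Matrix

variable {G : Type*} [Group G] [Finite G] {V T : Subgroup G} {p k : ℕ}

/-- the special affine group of the plane -/
def asl (F : Type*) [Field F] : Subgroup (Equiv.Perm (Fin 2 → F)) where
  carrier := {σ | ∃ g : SL(2, F), ∃ v, ∀ x, σ x = g • x + v}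
  one_mem' := ⟨1, 0, fun x => by simp⟩
  mul_mem' := fun ⟨g, v, h⟩ ⟨g', v', h'⟩ => ⟨g * g', g • v' + v, fun x => by
    rw [Equiv.Perm.mul_apply, h, h', smul_add, mul_smul, add_assoc]⟩
  inv_mem' := fun {σ} ⟨g, v, h⟩ => ⟨g⁻¹, -(g⁻¹ • v), fun x => by
    rw [Equiv.Perm.inv_eq_iff_eq, h, smul_add, smul_neg, smul_inv_smul, smul_inv_smul, neg_add_cancel_right]⟩

theorem asl_inv {F : Type*} [Field F] (h2 : (2 : F) ≠ 0) (σ : asl F) : orderOf σ = 2 ↔ ∃ v, ∀ x, σ.1 x = v - x := by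
  have t : ∀ x : Fin 2 → F, x + x = 0 → x = 0 := fun x e => by
    rwa [← two_smul F, smul_eq_zero_iff_right h2] at e
  rw [orderOf_eq_prime_iff, pow_two, Subtype.ext_iff, ne_eq, Subtype.ext_iff, Equiv.ext_iff, Equiv.ext_iff]
  simp only [coe_mul, Equiv.Perm.mul_apply, coe_one, Equiv.Perm.one_apply]
  constructor
  · obtain ⟨g, v, h⟩ := σ.2
    simp only [h, smul_add, add_assoc]
    rintro ⟨h1, h3⟩
    have e := h1 0
    rw [smul_zero, smul_zero, zero_add] at e
    simp only [e, add_zero, ← mul_smul] at h1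
    rcases (SL2.isScal_iff g).1 ((SL2.sq_eq_one_iff_isScal h2 g).1 (Subtype.ext (Matrix.ext_of_mulVec_single fun i =>
      (h1 _).trans (Matrix.one_mulVec _).symm))) with rfl | rfl
    · exact absurd (fun x => by rw [one_smul, t v (by rwa [one_smul] at e), add_zero]) h3
    · exact ⟨v, fun x => by
        change (-1 : Matrix (Fin 2) (Fin 2) F) *ᵥ x + v = _
        rw [Matrix.neg_mulVec, Matrix.one_mulVec, neg_add_eq_sub]⟩
  · rintro ⟨v, h⟩
    refine ⟨fun x => by rw [h, h, sub_sub_cancel], fun k => one_ne_zero (t 1 ?_)⟩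
    have := (h 0).symm.trans (k 0)
    rw [sub_zero] at this
    rw [← eq_neg_iff_add_eq_zero, ← zero_sub, ← this, ← h, k]

theorem exists_counter (hp : p.Prime) (hp2 : p ≠ 2) (hk : 1 ≤ k) (he : Even k) (h9 : p ^ k ≠ 9) :
    ∃ (X : Type) (_ : Group X) (_ : Finite X), Nat.card {x : X // orderOf x = 2} = p ^ k ∧
      (∀ x y : X, orderOf x = 2 → orderOf y = 2 → ∃ g : X, g * x * g⁻¹ = y) ∧ ¬ Group.IsSolvable X := by
  have := Fact.mk hp
  obtain ⟨m, rfl⟩ := he
  let F := GaloisField p m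
  have cF : Nat.card F = p ^ m := GaloisField.card p m (by omega)
  have h2 : (2 : F) ≠ 0 := fun e => hp2 ((Nat.prime_dvd_prime_iff_eq hp Nat.prime_two).1
    ((CharP.cast_eq_zero_iff F p 2).1 (by exact_mod_cast e)))
  let r : (Fin 2 → F) → asl F := fun v => ⟨Equiv.subLeft v, -1, v, fun x => by
    change v - x = (-1 : Matrix (Fin 2) (Fin 2) F) *ᵥ x + v
    rw [Matrix.neg_mulVec, Matrix.one_mulVec, neg_add_eq_sub]⟩
  refine ⟨asl F, inferInstance, inferInstance, ?_, fun x y hx hy => ?_, fun _ => ?_⟩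
  · rw [← Nat.card_eq_of_bijective (fun v => (⟨r v, (asl_inv h2 _).2 ⟨v, fun _ => rfl⟩⟩ : {x : asl F // orderOf x = 2}))
      ⟨fun v w e => by simpa [r] using congrArg (·.1.1 0) e, fun ⟨σ, h⟩ => ((asl_inv h2 σ).1 h).imp fun v e =>
        Subtype.ext (Subtype.ext (Equiv.ext fun x => (e x).symm))⟩, Nat.card_fun, cF, Nat.card_fin, ← pow_mul, mul_two]
  · obtain ⟨v, hv⟩ := (asl_inv h2 x).1 hx
    obtain ⟨w, hw⟩ := (asl_inv h2 y).1 hy
    refine ⟨⟨Equiv.addRight ((2 : F)⁻¹ • (w - v)), 1, _, fun x => by rw [one_smul]; rfl⟩, ?_⟩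
    rw [mul_inv_eq_iff_eq_mul]
    refine Subtype.ext (Equiv.ext fun u => funext fun i => ?_)
    simp only [coe_mul, Equiv.Perm.mul_apply, Equiv.coe_addRight, hv, hw, Pi.add_apply, Pi.sub_apply, Pi.smul_apply,
      smul_eq_mul]
    linear_combination (w i - v i) * mul_inv_cancel₀ h2
  · let f : SL(2, F) →* asl F :=
      (MulAction.toPermHom SL(2, F) (Fin 2 → F)).codRestrict (asl F) fun g => ⟨g, 0, fun x => (add_zero _).symm⟩
    have := Group.isSolvable_of_isSolvable_injective (G := SL(2, F)) (show Function.Injective f from fun g g' e =>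
      Subtype.ext (Matrix.ext_of_mulVec_single fun i => congrArg (·.1 (Pi.single i 1)) e))
    refine Dickson.psl_not_isSolvable (F := F) ?_ inferInstance
    have := Nat.pow_le_pow_left (show 3 ≤ p by have := hp.two_le; omega) m
    have := Nat.pow_le_pow_right (show 0 < 3 by omega) (show 1 ≤ m by omega)
    have : p ^ m ≠ 3 := fun e => h9 (by rw [pow_add, e]; rfl)
    omega

end CfsgLib.PkI
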