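import Cfsg.Agent.Lib.PkI.Defs
import Cfsg.Agent.Lib.CK.Main
import Cfsg.Agent.Lib.Char.Burnside
import Cfsg.Agent.S0675

/-! The group induced on `V` (plans/PKI2.md) -/

set_option autoImplicit false

namespace CfsgLib.PkI

open Subgroup CfsgLib.Tech
open scoped commutatorElement

variable {G : Type*} [Group G] [Finite G] {V T : Subgroup G} {p k : ℕ}

theorem Pyr.full (h : Pyr V) (hp : p.Prime) (hp2 : p ≠ 2) (hV : Nat.card V = p + 1) (hC : Group.IsSolvable (Cz V)) :
    Group.IsSolvable G ∨ (8 ≤ Nat.card V ∧ Full V) := by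
  classical
  have := h.normal
  have : Fintype {v : V // v ≠ 1} := Fintype.ofFinite _
  have := Fintype.ofFinite V
  have cα : Fintype.card {v : V // v ≠ 1} = p := by
    rw [Fintype.card_subtype_compl, Fintype.card_subtype_eq, ← Nat.card_eq_fintype_card, hV, Nat.add_sub_cancel]
  let φ : G →* Equiv.Perm {v : V // v ≠ 1} := MonoidHom.mk'
    (fun g => (MulAut.toPerm V (MulAut.conjNormal g)).subtypePerm fun x => MulEquiv.map_ne_one_iff (MulAut.conjNormal g : V ≃* V) (x := x))
    fun a b => Equiv.ext fun x => Subtype.ext (congrArg (· x.1) (map_mul MulAut.conjNormal a b))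
  have eφ : ∀ g x y, φ g x = y ↔ g * x.1 * g⁻¹ = y.1 := fun g x y => by rw [Subtype.ext_iff, Subtype.ext_iff]; rfl
  have sol : Group.IsSolvable φ.range → Group.IsSolvable G := fun _ =>
    Group.isSolvable_of_ker_le_range (Cz V).subtype φ.rangeRestrict fun g hg => by
      rw [range_subtype, mem_Cz']
      intro v hv
      by_cases e : v = 1
      · simp [e]
      · exact (eφ g ⟨⟨v, hv⟩, by simpa using e⟩ _).1 (DFunLike.congr_fun (congrArg Subtype.val hg) _)
  have : MulAction.IsPretransitive φ.range {v : V // v ≠ 1} := ⟨fun x y => by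
    obtain ⟨g, e⟩ := h.conj _ x.1.2 _ y.1.2 (by simpa using x.2) (by simpa using y.2)
    exact ⟨⟨_, g, rfl⟩, (eφ _ _ _).2 e⟩⟩
  rcases Cfsg.Agent.S0675.result (cα ▸ hp) φ.range with k | k
  · exact .inl (sol k)
  rw [MulAction.is_two_pretransitive_iff] at k
  obtain ⟨n, hn⟩ := h.exists_card
  have := hp.two_le
  by_cases h3 : n < 3
  · refine .inl (sol (Char.isSolvable_of_card_primeFactors_le_two ?_))
    obtain rfl : p = 3 := by interval_cases n <;> omega
    have d := card_subgroup_dvd_card φ.range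
    rw [Nat.card_eq_fintype_card (α := Equiv.Perm _), Fintype.card_perm, cα] at d
    exact (Finset.card_le_card (Nat.primeFactors_mono d (by decide))).trans (by simp [Nat.factorial]; decide +kernel)
  have h4 : n ≠ 4 := by
    rintro rfl
    obtain rfl : p = 15 := by omega
    norm_num at hp
  refine .inr ⟨hn ▸ Nat.pow_le_pow_right two_pos (not_lt.1 h3), fun ψ => ?_⟩
  let : CommGroup V := { (inferInstance : Group V) with mul_comm := fun a b => Subtype.ext (h.comm a.2 b.2) }
  let : Module (ZMod 2) (Additive V) := AddCommGroup.zmodModule fun a => by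
    rw [two_nsmul]
    exact Subtype.ext (h.sq a.toMul.2)
  have e : Module.finrank (ZMod 2) (Additive V) = n := by
    rw [← Nat.card_congr (Additive.toMul (α := V)), Module.natCard_eq_pow_finrank (K := ZMod 2), Nat.card_zmod] at hn
    exact Nat.pow_right_injective le_rfl hn
  let L : MulAut V →* (Additive V ≃ₗ[ZMod 2] Additive V) := MonoidHom.mk'
    (fun a => (MulEquiv.toAdditive a).toLinearEquiv fun c x => ZMod.map_smul _ c x) fun _ _ => rfl
  obtain ⟨g, hg⟩ := CK.sl_le' (H := (L.comp MulAut.conjNormal).range) (by omega) (by omega)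
    (fun a b a' b' ha hb hab ha' hb' hab' => by
      obtain ⟨⟨_, g, rfl⟩, e1, e2⟩ := @k ⟨a.toMul, ha⟩ ⟨b.toMul, hb⟩ ⟨a'.toMul, ha'⟩ ⟨b'.toMul, hb'⟩ (fun e => hab (by rw [show a = b from congrArg (·.1) e]))
        fun e => hab' (by rw [show a' = b' from congrArg (·.1) e])
      refine ⟨_, ⟨g, rfl⟩, ?_, ?_⟩
      · rw [show (L.comp MulAut.conjNormal g) a = a' from Subtype.ext ((eφ g _ _).1 e1)]
      · rw [show (L.comp MulAut.conjNormal g) b = b' from Subtype.ext ((eφ g _ _).1 e2)]) (L ψ)
    ((by decide : ∀ c : ZMod 2, c ≠ 0 → c = 1) _ (L ψ).isUnit_det'.ne_zero)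
  exact ⟨g, fun v => congrArg (fun f : Additive V ≃ₗ[ZMod 2] Additive V => ((f (Additive.ofMul v)).toMul : G)) hg⟩

end CfsgLib.PkI
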