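import Cfsg.Agent.Lib.PkI.Defs
import Cfsg.Agent.Lib.Comp.FStar
import Cfsg.Agent.Lib.Transfer.Focal
import Cfsg.Agent.Lib.Dim4.TR
import Cfsg.Agent.Lib.FT.OddOrder
import Cfsg.Agent.Lib.PGroup.Critical

/-! The Sylow `2`-subgroup of `C(V)` is normal (plans/PKI2.md) -/

set_option autoImplicit false

namespace CfsgLib.PkI

open Subgroup CfsgLib.Tech Cfsg
open scoped commutatorElement

variable {G : Type*} [Group G] [Finite G] {V T : Subgroup G} {p k : ℕ}

theorem qs_conj {X : Type*} [Group X] [Finite X] (h : IsQuasisimple X) (P : Sylow 2 X)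
    (hP : ∀ a ∈ P, ∀ b ∈ P, ⁅a, b⁆ ∈ center X) : ∃ x ∈ P, x ∉ center X ∧
      ∀ y, y ∉ center X → x * x ∈ center X → y * y ∈ center X → ∃ k, ∃ z ∈ center X, y = k * x * k⁻¹ * z := by
  have := h.2
  have hn := Comp.qs_quotient_center_not_isMulCommutative h
  let Q := P.mapSurjective (QuotientGroup.mk'_surjective (center X))
  obtain ⟨⟨w, hw⟩, o⟩ := exists_prime_orderOf_dvd_card' (G := Q) 2 (Q.dvd_card_of_dvd_card
    (FT.even_card_of_not_solvable (Comp.qs_not_isSolvable (Comp.qs_of_isSimpleGroup hn))).two_dvd)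
  rw [orderOf_mk] at o
  obtain ⟨x, hx, rfl⟩ := hw
  have k : ∀ y, y ∉ center X → y * y ∈ center X → orderOf (y : X ⧸ center X) = 2 := fun y h1 h2 =>
    orderOf_eq_prime (by rw [pow_two, ← QuotientGroup.mk_mul, QuotientGroup.eq_one_iff]; exact h2)
      (mt (QuotientGroup.eq_one_iff y).1 h1)
  have hx' : x ∉ center X := fun e => by
    rw [QuotientGroup.mk'_apply, (QuotientGroup.eq_one_iff x).2 e, orderOf_one] at o
    omega
  refine ⟨x, hx, hx', fun y h1 h2 h3 => ?_⟩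
  obtain ⟨u, e⟩ := isConj_iff.1 (Dim4.isConj_of_ab2 hn Q ⟨⟨by
    rintro ⟨_, a, ha, rfl⟩ ⟨_, b, hb, rfl⟩
    refine Subtype.ext (commutatorElement_eq_one_iff_mul_comm.1 ?_)
    rw [← map_commutatorElement]
    exact (QuotientGroup.eq_one_iff _).2 (hP a ha b hb)⟩⟩ (k x hx' h2) (k y h1 h3))
  obtain ⟨u, rfl⟩ := QuotientGroup.mk_surjective u
  exact ⟨u, _, QuotientGroup.eq.1 e, by group⟩

theorem Pyr.layer_eq (h : Pyr V) (h4 : 2 < Nat.card V) (hs : ∀ T, IsSylowIn 2 T (Cz V) → T ≤ Cz T ∨ Sz V T) :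
    layer G = ⊥ := by
  refine Comp.layer_eq_bot_iff.2 fun K hK => ?_
  have := h.normal
  have KC : K ≤ Cz V := commutator_eq_bot_iff_le_centralizer.1 (Comp.comp_commutator_solvable hK
    (have : Group.IsNilpotent V := h.two.isNilpotent; inferInstance) (by rw [normalizer_eq_top]; exact le_top))
  have VC : V ≤ Cz K := le_centralizer_iff.1 KC
  have zc : ∀ a : K, a ∈ center K ↔ (a : G) ∈ Cz K := fun a => by
    rw [Comp.center_eq_subgroupOf_centralizer, mem_subgroupOf]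
  obtain ⟨P⟩ : Nonempty (Sylow 2 K) := inferInstance
  obtain ⟨T, hT, hPT⟩ := exists_isSylowIn_ge (P.2.map K.subtype) ((map_subtype_le _).trans KC)
  have m : ∀ a ∈ P, (a : G) ∈ T := fun a ha => hPT ⟨a, ha, rfl⟩
  rcases hs T hT with ha | hz
  · obtain ⟨v, o⟩ := exists_prime_orderOf_dvd_card' (G := P) 2 (P.dvd_card_of_dvd_card
      (FT.even_card_of_not_solvable (Comp.qs_not_isSolvable hK.2)).two_dvd)
    have := Transfer.inf_commutator_inf_center_le_of_hall P.card_coprime_index (x := v.1)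
      ⟨⟨v.2, by rw [hK.2.1.commutator_eq_top]; trivial⟩,
        (zc _).2 (VC (h.mem_of_orderOf (by rw [orderOf_coe, orderOf_coe, o])))⟩
    rw [commutator_eq_bot_iff_le_centralizer.2 fun a ha' b hb => Subtype.ext (ha (m a ha') b (m b hb)), mem_bot] at this
    rw [← orderOf_coe, this, orderOf_one] at o
    omega
  obtain ⟨⟨x, xK⟩, hx, xZ, k⟩ := qs_conj hK.2 P fun a ha b hb => (zc _).2 (VC (hz.comm _ (m a ha) _ (m b hb)))
  rw [zc] at xZ
  have xx : x * x ∈ V := hz.sq _ (m _ hx)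
  have x1 : x * x ≠ 1 := fun e => xZ (VC ((h.mem x).2 e))
  have cm : ∀ g g', cj g K ≠ cj g' K → cj g K ≤ Cz (cj g' K) := fun g g' =>
    Comp.comp_le_centralizer_of_ne (Comp.comp_map_conj hK g) (Comp.comp_map_conj hK g')
  have A : ∀ y ∈ K, y ∉ Cz K → y * y ∈ V → y * y = x * x := fun y yK yZ yy => by
    obtain ⟨⟨u, uK⟩, ⟨z, zK⟩, hz, e⟩ := k ⟨y, yK⟩ (by rwa [zc]) ((zc _).2 (VC xx)) ((zc _).2 (VC yy))
    replace e : y = u * x * u⁻¹ * z := congrArg Subtype.val e
    replace hz : z ∈ Cz K := (zc _).1 hz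
    have e2 : y * y = x * x * (z * z) := by
      rw [e, mul_assoc _ z, ← mul_assoc z, ← hz _ (mul_mem (mul_mem uK xK) (inv_mem uK)), mul_assoc _ z, ← mul_assoc,
        conj_mul, mem_Cz'.1 (KC uK) _ xx]
    by_contra n
    obtain ⟨g, hg⟩ := h.conj (z * z) ((mul_mem_cancel_left xx).1 (e2 ▸ yy)) _ xx (fun e => n (by rw [e2, e, mul_one])) x1
    have c : g * z * g⁻¹ ∈ Cz K := by
      by_cases e : cj g K = cj 1 K
      · rw [cj_one] at e
        rw [← e, Cz, ← cj_centralizer]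
        exact conj_mem_cj.2 hz
      · simpa only [cj_one] using cm g 1 e (conj_mem_cj.2 zK)
    refine xZ ((mul_mem_cancel_right (inv_mem c)).1 (VC ((h.mem _).2 ?_)))
    rw [← conj_mul] at hg
    generalize g * z * g⁻¹ = w at c hg
    rw [mul_assoc, ← mul_assoc w⁻¹, ← inv_mem c x xK, mul_assoc, ← mul_assoc, ← hg]
    group
  have D : ∀ g g', cj g K = cj g' K → g * (x * x) * g⁻¹ = g' * (x * x) * g'⁻¹ := fun g g' e => by
    have e' : cj (g⁻¹ * g') K = K := by rw [cj_mul, ← e, cj_inv_cj]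
    have := A _ (e' ▸ conj_mem_cj.2 xK) (by
      rwa [show Cz K = cj (g⁻¹ * g') (Cz K) by rw [cj_centralizer, e'], conj_mem_cj]) (by
      rw [conj_mul]; exact h.conj_mem xx _)
    conv_lhs => rw [← this]
    group
  obtain ⟨c, hc, c1, c2⟩ : ∃ c ∈ V, c ≠ 1 ∧ c ≠ x * x := by
    by_contra! n
    have : (V : Set G).ncard ≤ 2 := (Set.ncard_le_ncard (t := {1, x * x}) fun c hc => or_iff_not_imp_left.2 (n c hc)).trans
      ((Set.ncard_insert_le _ _).trans (by simp))
    exact this.not_gt h4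
  obtain ⟨g, hg⟩ := h.conj _ xx c hc x1 c1
  obtain ⟨g', hg'⟩ := h.conj _ xx _ (mul_mem xx hc) x1 fun e => c2 (by rw [eq_inv_of_mul_eq_one_right e, h.inv_eq xx])
  have m1 : g * x * g⁻¹ ∈ Cz K := by
    simpa only [cj_one] using cm g 1 (fun e => c2 (by simpa [hg] using D _ _ e)) (conj_mem_cj.2 xK)
  have m2 : g' * x * g'⁻¹ ∈ Cz K := by
    simpa only [cj_one] using cm g' 1 (fun e => c1 (by simpa [hg'] using D _ _ e)) (conj_mem_cj.2 xK)
  have m3 := cm g g' (fun e => x1 (by simpa only [hg, hg', right_eq_mul] using D _ _ e)) (conj_mem_cj.2 xK) _ (conj_mem_cj.2 xK)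
  refine xZ ((mul_mem_cancel_right (mul_mem m1 m2)).1 (VC ((h.mem _).2 ?_)))
  rw [← conj_mul] at hg hg'
  generalize g * x * g⁻¹ = y at *
  generalize g' * x * g'⁻¹ = w at *
  have a : Commute x y := m1 x xK
  have b : Commute x w := m2 x xK
  rw [(a.mul_right b).symm.mul_mul_mul_comm, (Commute.symm m3).symm.mul_mul_mul_comm, hg, hg', h.comm hc (mul_mem xx hc),
    mul_assoc _ c, h.sq hc, mul_one, h.sq xx]

theorem Pyr.nrm (h : Pyr V) (hO : pPrimeCore 2 G = ⊥) (hE : layer G = ⊥) (hT : IsSylowIn 2 T (Cz V))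
    (hs : T ≤ Cz T ∨ Sz V T) : T.Normal ∧ (T ≤ Cz T → T = Cz V) := by
  have := h.normal
  have := h.Cz_normal
  have hR := Comp.fstar_eq_pCore_iff.1 (Comp.fstar_eq_pCore_iff'.2 ⟨hE, hO⟩)
  have R2 := Core.isPGroup_pCore 2 G
  set R := pCore 2 G
  have VR : V ≤ R := Core.le_pCore h.two
  have RC : R ≤ Cz V := by
    by_cases e : V = ⊥
    · exact le_centralizer_iff.1 (e ▸ bot_le)
    have := (nontrivial_iff_ne_bot R).2 fun k => e (le_bot_iff.1 (k ▸ VR))
    have := R2.center_nontrivial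
    obtain ⟨⟨⟨z, zR⟩, hz⟩, z1⟩ := exists_ne (1 : center R)
    rw [Comp.center_eq_subgroupOf_centralizer, mem_subgroupOf] at hz
    obtain ⟨k, e⟩ := isPGroup_iff_mem.1 R2 z zR
    obtain ⟨j, h1, h2⟩ := h.exists_pow e fun k => z1 (Subtype.ext (Subtype.ext k))
    exact le_centralizer_iff.1 (h.le_of_mem h1 h2 (pow_mem hz _))
  have RT : R ≤ T := hT.le_of_le_normalizer R2 RC (by rw [normalizer_eq_top]; exact le_top)
  have TR : T ≤ R := by
    rcases hs with ha | hz
    · exact (ha.trans (centralizer_le RT)).trans hR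
    let D : Subgroup G := Cz V ⊓ (centralizer (R.map (QuotientGroup.mk' V) : Set (G ⧸ V))).comap (QuotientGroup.mk' V)
    have := (inferInstance : R.Normal).map _ (QuotientGroup.mk'_surjective V)
    have mD : ∀ g, g ∈ D ↔ g ∈ Cz V ∧ ∀ r ∈ R, ⁅g, r⁆ ∈ V := fun g => mem_inf.trans <| and_congr_right fun _ => by
      simp only [SetLike.mem_coe, mem_comap, mem_centralizer_iff, mem_map, forall_exists_index, and_imp,
        forall_apply_eq_imp_iff₂]
      refine forall₂_congr fun r _ => ?_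
      rw [eq_comm, ← commutatorElement_eq_one_iff_mul_comm, ← map_commutatorElement, QuotientGroup.mk'_apply,
        QuotientGroup.eq_one_iff]
    refine le_trans (fun t ht => (mD t).2 ⟨hT.le ht, fun r hr => hz.comm t ht r (RT hr)⟩)
      (Core.le_pCore (N := D) (isPGroup_iff_mem.2 fun g hg => ?_))
    obtain ⟨k, e⟩ := isPGroup_iff_mem.1 R2 (g ^ 2) (hR fun r hr => by
      obtain ⟨h1, h2⟩ := (mD g).1 hg
      have a := mem_Cz'.1 h1 _ (h2 r hr)
      have b := h.sq (h2 r hr)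
      calc r * g ^ 2 = ⁅g, r⁆ * ⁅g, r⁆ * (r * g ^ 2) := by rw [b, one_mul]
        _ = g * ⁅g, r⁆ * g⁻¹ * ⁅g, r⁆ * (r * g ^ 2) := by rw [a]
        _ = _ := by simp only [commutatorElement_def, pow_two]; group)
    exact ⟨k + 1, by rw [pow_succ', pow_mul, e]⟩
  obtain rfl : T = R := le_antisymm TR RT
  refine ⟨inferInstance, fun ha => (hT.eq_of_le (isPGroup_iff_mem.2 fun g hg => ?_) hT.le le_rfl).symm⟩
  obtain ⟨k, m, hm, e⟩ := Nat.exists_eq_two_pow_mul_odd (orderOf_pos g).ne'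
  have o : (g ^ 2 ^ k) ^ m = 1 := by rw [← pow_mul, ← e, pow_orderOf_eq_one]
  have c := pow_mem hg (2 ^ k)
  suffices g ^ 2 ^ k ∈ R by
    obtain ⟨j, e⟩ := isPGroup_iff_mem.1 R2 _ this
    exact ⟨k + j, by rw [pow_add, pow_mul, e]⟩
  generalize g ^ 2 ^ k = u at o c
  have key : ∀ i, ∀ a ∈ R, a ^ 2 ^ i = 1 → MulAut.conj u a = a := fun i => by
    induction i with
    | zero => exact fun a _ e => by rw [show a = 1 by simpa using e, map_one]
    | succ i ih =>
      intro a ha' e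
      have m1 : MulAut.conj u a ∈ R := (inferInstance : R.Normal).conj_mem a ha' u
      have e1 : (a⁻¹ * MulAut.conj u a) ^ 2 ^ i = 1 := by
        rw [Commute.mul_pow (ha m1 _ (inv_mem ha')), ← map_pow, MulAut.conj_apply,
          mem_Cz'.1 c _ ((h.mem _).2 (by rw [← pow_two, ← pow_mul, ← pow_succ, e])), inv_pow, inv_mul_cancel]
      exact PGroup.aut_apply_eq_of_fix (ih _ (mul_mem (inv_mem ha') m1) e1)
        (((Nat.coprime_two_right.2 hm).pow_right i).coprime_dvd_left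
          ((orderOf_map_dvd _ u).trans (orderOf_dvd_of_pow_eq_one o)) |>.coprime_dvd_right (orderOf_dvd_of_pow_eq_one e1))
  refine hR fun a ha' => ?_
  obtain ⟨i, e⟩ := isPGroup_iff_mem.1 R2 a ha'
  exact (mul_inv_eq_iff_eq_mul.1 (key i a ha' e)).symm

end CfsgLib.PkI
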