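import Cfsg.Agent.Lib.PkI.Defs
import Cfsg.Agent.Lib.Kazarin.Basic

/-! Reduction modulo `O(G)` (plans/PKI2.md) -/

set_option autoImplicit false

namespace CfsgLib.PkI

open Subgroup CfsgLib.Tech Cfsg
open scoped commutatorElement

variable {G : Type*} [Group G] [Finite G] {V T : Subgroup G} {p k : ℕ}

omit [Finite G] in
theorem red_sq {t : G} (ht : orderOf t = 2) : t * t = 1 := by rw [← pow_two, ← ht, pow_orderOf_eq_one]

omit [Finite G] in
theorem red_index {t : G} (ht : orderOf t = 2)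
    (hj : ∀ x y : G, orderOf x = 2 → orderOf y = 2 → ∃ g : G, g * x * g⁻¹ = y) :
    (centralizer ({t} : Set G)).index = Nat.card {x : G // orderOf x = 2} := by
  let := MulAction.compHom G (MulAut.conj (G := G))
  have h1 := MulAction.index_stabilizer G t
  rw [show MulAction.stabilizer G t = centralizer ({t} : Set G) from Subgroup.ext fun g => by
    rw [MulAction.mem_stabilizer_iff, mem_centralizer_singleton_iff, ← mul_inv_eq_iff_eq_mul]
    rfl] at h1
  rw [h1, ← Nat.card_coe_set_eq]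
  refine Nat.card_congr (Equiv.subtypeEquivRight fun y => ⟨?_, fun hy => hj t y ht hy⟩)
  rintro ⟨g, rfl⟩
  exact ((MulAut.conj g).orderOf_eq t).trans ht

theorem red_num (hp : p.Prime) (hp2 : p ≠ 2) {n j : ℕ} (h : 2 ^ n = p ^ j + 1) (h3 : 3 ≤ 2 ^ n) : j = 1 := by
  have ho := hp.odd_of_ne_two hp2
  obtain ⟨m, rfl⟩ : ∃ m, n = m + 2 := by
    refine ⟨n - 2, ?_⟩
    by_contra k
    have : 2 ^ n ≤ 2 ^ 1 := Nat.pow_le_pow_right two_pos (by omega)
    omega
  rcases Nat.even_or_odd' j with ⟨i, rfl | rfl⟩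
  · obtain ⟨r, hr⟩ := ho.pow (n := i)
    rw [pow_mul', hr, pow_add] at h
    have : (2 * r + 1) ^ 2 = 4 * (r * r + r) + 1 := by ring
    omega
  · have hco : ∀ i : ℕ, ∃ c, Odd c ∧ p ^ (2 * i + 1) + 1 = (p + 1) * c := by
      intro i
      induction i with
      | zero => exact ⟨1, odd_one, by simp⟩
      | succ i ih =>
        obtain ⟨c, hc, e⟩ := ih
        obtain ⟨r, rfl⟩ := ho
        refine ⟨c + (2 * r + 1) ^ (2 * i + 1) * (2 * r), hc.add_even (even_two.mul_right _ |>.mul_left _), ?_⟩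
        rw [mul_add (2 * r + 1 + 1), ← e]
        ring
    obtain ⟨c, hc, e⟩ := hco i
    have : c ∣ 2 ^ (m + 2) := ⟨p + 1, by rw [h, e, mul_comm]⟩
    have h1 : c = 1 := Nat.Coprime.eq_one_of_dvd (Nat.Coprime.pow_right _ (Odd.coprime_two_right hc)) this
    rw [h1, mul_one, Nat.add_right_cancel_iff] at e
    exact Nat.pow_right_injective hp.two_le (e.trans (pow_one p).symm)

theorem red_aux (hp : p.Prime) (hp2 : p ≠ 2) (hO : pPrimeCore 2 G = ⊥)
    (hj : ∀ x y : G, orderOf x = 2 → orderOf y = 2 → ∃ g : G, g * x * g⁻¹ = y) {x y : G} (hx : orderOf x = 2)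
    (hy : orderOf y = 2) (hne : x ≠ y) (hi : (centralizer ({x} : Set G)).index = p ^ k) :
    ∃ V : Subgroup G, Pyr V ∧ Nat.card V = p + 1 := by
  have hP : pCore p G = ⊥ := le_bot_iff.1 (hO ▸ Core.pCore_le_pPrimeCore_of_ne hp Nat.prime_two hp2)
  have hxR : x ∈ pCore 2 G := Kazarin.mem_pCore_of_pCore_eq_bot hp Nat.prime_two hp2.symm hP (m := 1)
    (by rw [pow_one, pow_two, red_sq hx]) hi
  have hx1 : ∀ {z : G}, orderOf z = 2 → z ≠ 1 := fun hz e => by simp [e] at hz
  have ho : ∀ {z : G}, z * z = 1 → z ≠ 1 → orderOf z = 2 := fun hz e => orderOf_eq_prime (by rw [pow_two, hz]) e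
  have hR := Core.isPGroup_pCore 2 G
  have : Nontrivial (pCore 2 G) := (pCore 2 G).nontrivial_iff_ne_bot.2 fun e => hx1 hx (by rwa [e, mem_bot] at hxR)
  have := hR.center_nontrivial
  obtain ⟨e, he⟩ := (hR.to_subgroup (center _)).exists_card_eq
  obtain ⟨z, hz⟩ := exists_prime_orderOf_dvd_card' (G := center (pCore 2 G)) 2 (by
    rw [he]
    refine dvd_pow_self 2 fun k => ?_
    rw [k, pow_zero] at he
    exact (Finite.one_lt_card (α := center (pCore 2 G))).ne' he)
  rw [← orderOf_coe, ← orderOf_coe] at hz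
  have hall : ∀ (M : Subgroup G) [M.Normal] {u w : G}, orderOf u = 2 → u ∈ M → w * w = 1 → w ∈ M := by
    intro M hM u w hu huM hw
    by_cases e : w = 1
    · exact e ▸ one_mem _
    obtain ⟨g, rfl⟩ := hj u w hu (ho hw e)
    exact hM.conj_mem u huM g
  have hc : ∀ {u w : G}, u * u = 1 → w * w = 1 → u * w = w * u := fun hu hw =>
    hall (centralizer (pCore 2 G : Set G)) hz
      (fun r hr => congrArg Subtype.val (mem_center_iff.1 z.2 ⟨r, hr⟩)) hw _ (hall _ hx hxR hu)
  let V : Subgroup G :=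
    { carrier := {u | u * u = 1}
      one_mem' := mul_one 1
      mul_mem' := fun {u w} hu hw => by
        show u * w * (u * w) = 1
        rw [mul_assoc, ← mul_assoc w, ← hc hu hw, mul_assoc, hw, mul_one, hu]
      inv_mem' := fun {u} hu => by
        show u⁻¹ * u⁻¹ = 1
        rw [← mul_inv_rev, hu, inv_one] }
  have hV : Pyr V := ⟨fun _ => Iff.rfl, fun u hu w hw h1 h2 => hj u w (ho hu h1) (ho hw h2)⟩
  have hcard : Nat.card V = p ^ k + 1 := by
    rw [← hi, red_index hx hj]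
    have e1 : (V : Set G) = insert 1 {u | orderOf u = 2} := Set.ext fun u =>
      ⟨fun hu => (em (u = 1)).imp id (ho hu), fun hu => hu.elim (fun e => e ▸ one_mem V) fun k => red_sq k⟩
    show Nat.card (V : Set G) = Nat.card {u : G | orderOf u = 2} + 1
    rw [e1, Nat.card_coe_set_eq, Nat.card_coe_set_eq, Set.ncard_insert_of_notMem (by simp)]
  obtain ⟨n, hn⟩ := hV.exists_card
  refine ⟨V, hV, ?_⟩
  rw [hcard, red_num hp hp2 (hn.symm.trans hcard) ?_, pow_one]
  rw [← hn]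
  have : ({1, x, y} : Set G).ncard ≤ (V : Set G).ncard := Set.ncard_le_ncard (by
    rintro u (rfl | rfl | rfl)
    exacts [one_mem V, red_sq hx, red_sq hy])
  rwa [Set.ncard_eq_three.2 ⟨1, x, y, (hx1 hx).symm, (hx1 hy).symm, hne, rfl⟩, ← Nat.card_coe_set_eq] at this

theorem red (hp : p.Prime) (hp2 : p ≠ 2) (hc : Nat.card {x : G // orderOf x = 2} = p ^ k)
    (hj : ∀ x y : G, orderOf x = 2 → orderOf y = 2 → ∃ g : G, g * x * g⁻¹ = y) {N : Subgroup G} [N.Normal]
    (hN : Odd (Nat.card N)) (hO : pPrimeCore 2 (G ⧸ N) = ⊥) {x y : G} (hx : orderOf x = 2) (hy : orderOf y = 2)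
    (hxy : x * y = y * x) (hne : x ≠ y) : ∃ V : Subgroup (G ⧸ N), Pyr V ∧ Nat.card V = p + 1 := by
  have hodd : ∀ {u : G}, u ∈ N → Odd (orderOf u) := fun hu => hN.of_dvd_nat (N.orderOf_dvd_natCard hu)
  have h1 : ∀ {u : G}, u ∈ N → u * u = 1 → u = 1 := fun {u} hu h => by
    by_contra e
    have := hodd hu
    rw [orderOf_eq_prime (p := 2) (by rw [pow_two, h]) e] at this
    exact absurd this (by decide)
  have hq : ∀ {u : G}, orderOf u = 2 → orderOf (u : G ⧸ N) = 2 := fun {u} hu =>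
    orderOf_eq_prime (by rw [← QuotientGroup.mk_pow, pow_two, red_sq hu, QuotientGroup.mk_one]) fun e => by
      simp [h1 ((QuotientGroup.eq_one_iff u).1 e) (red_sq hu)] at hu
  have hl : ∀ z : G ⧸ N, orderOf z = 2 → ∃ u : G, orderOf u = 2 ∧ (u : G ⧸ N) = z := by
    intro z hz
    obtain ⟨u, rfl⟩ := QuotientGroup.mk_surjective z
    obtain ⟨r, hr⟩ := hodd ((QuotientGroup.eq_one_iff (u * u)).1 (by rw [QuotientGroup.mk_mul, red_sq hz]))
    have e : ((u ^ (2 * r + 1) : G) : G ⧸ N) = u := by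
      rw [QuotientGroup.mk_pow, pow_succ, pow_mul, pow_two, red_sq hz, one_pow, one_mul]
    refine ⟨u ^ (2 * r + 1), orderOf_eq_prime ?_ fun k => ?_, e⟩
    · rw [← pow_mul, pow_mul', pow_two, ← hr, pow_orderOf_eq_one]
    · rw [k, QuotientGroup.mk_one] at e
      simp [← e] at hz
  have hd : (centralizer ({(x : G ⧸ N)} : Set (G ⧸ N))).index ∣ p ^ k := by
    rw [← hc, ← red_index hx hj, ← index_comap_of_surjective _ (QuotientGroup.mk'_surjective N)]
    refine index_dvd_of_le fun g hg => ?_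
    rw [mem_comap, mem_centralizer_singleton_iff, QuotientGroup.mk'_apply, ← QuotientGroup.mk_mul,
      mem_centralizer_singleton_iff.1 hg, QuotientGroup.mk_mul]
  obtain ⟨j, -, hi⟩ := (Nat.dvd_prime_pow hp).1 hd
  refine red_aux hp hp2 hO (fun a b ha hb => ?_) (hq hx) (hq hy) (fun e => hne ?_) hi
  · obtain ⟨u, hu, rfl⟩ := hl a ha
    obtain ⟨w, hw, rfl⟩ := hl b hb
    obtain ⟨g, rfl⟩ := hj u w hu hw
    exact ⟨g, rfl⟩
  · rw [← inv_mul_eq_one]
    refine h1 (QuotientGroup.eq.1 e) ?_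
    rw [inv_eq_of_mul_eq_one_right (red_sq hx), mul_assoc, ← mul_assoc y, ← hxy, mul_assoc, red_sq hy, mul_one, red_sq hx]

end CfsgLib.PkI
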