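import Cfsg.Agent.Lib.PkI.Defs
import Cfsg.Agent.Lib.Suz2.CW
import Cfsg.Agent.Lib.Suz2.Higman
import Cfsg.Agent.Lib.PGroup.Critical
import Cfsg.Agent.Lib.Fgs.ClassSize

/-! The Sylow `2`-subgroup of `C(V)` is abelian or a Suzuki `2`-group (plans/PKI2.md) -/

set_option autoImplicit false

namespace CfsgLib.PkI

open Subgroup CfsgLib.Tech
open scoped commutatorElement

variable {G : Type*} [Group G] [Finite G] {V T : Subgroup G} {p k : ℕ}

theorem sq_dvd_card {α : Type*} [Finite α] (hp : p.Prime) {f : Equiv.Perm α} (hf : f ^ p ^ k = 1)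
    (h : ∀ x, (f ^ p) x ≠ x) : p ^ 2 ∣ Nat.card α := by
  classical
  have := Fintype.ofFinite (MulAction.orbitRel.Quotient (zpowers f) α)
  rw [Nat.card_congr (MulAction.selfEquivSigmaOrbits (zpowers f) α), Nat.card_sigma]
  refine Finset.dvd_sum fun ω _ => ?_
  have := Fintype.ofFinite (MulAction.orbit (zpowers f) ω.out)
  rw [Nat.card_eq_fintype_card, ← MulAction.minimalPeriod_eq_card]
  obtain ⟨i, -, e⟩ := (Nat.dvd_prime_pow hp).1
    (MulAction.pow_smul_eq_iff_minimalPeriod_dvd.1 (show f ^ p ^ k • ω.out = ω.out by rw [hf, one_smul]))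
  rw [e]
  refine pow_dvd_pow p (not_lt.1 fun k => h ω.out ((MulAction.pow_smul_eq_iff_minimalPeriod_dvd (a := f) (b := ω.out)).2 ?_))
  rw [e]
  simpa using pow_dvd_pow p (show i ≤ 1 by omega)

theorem arith (hp : p.Prime) (hp2 : p ≠ 2) {m : ℕ} (h1 : p ^ 2 ∣ 2 ^ m - 1) (h2 : 2 ^ m ≤ (p + 1) ^ 2) : m = 0 := by
  by_contra n
  obtain ⟨c, e⟩ := h1
  obtain ⟨r, rfl⟩ := hp.odd_of_ne_two hp2
  have := Nat.one_lt_two_pow n
  have r0 : r ≠ 0 := fun e => by norm_num [e] at hp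
  have : c = 1 := by
    rcases c with _ | _ | c
    · omega
    · rfl
    · have : (2 * r + 1) ^ 2 * (c + 1 + 1) < (2 * r + 1 + 1) ^ 2 := by omega
      have : 1 ≤ r := by omega
      nlinarith [Nat.zero_le (c * (2 * r + 1) ^ 2)]
  rcases m with _ | _ | m
  · omega
  · have : 1 ≤ r := by omega
    subst c
    norm_num at e
    nlinarith
  · have : (2 * r + 1) ^ 2 = 4 * (r * r + r) + 1 := by ring
    subst c
    omega

theorem reg_aut {P : Type*} [Group P] [Finite P] (hp : p.Prime) (hp2 : p ≠ 2) (hP : IsPGroup 2 P) {W : Subgroup P}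
    (hW : ∀ x, x ∈ W ↔ x * x = 1) (hZ : W ≤ center P) (hc : Nat.card W ≤ p + 1) {a : MulAut P} (ha : a ^ p ^ k = 1)
    (hf : ∀ x ∈ W, (a ^ p) x = x) : a ^ p = 1 := by
  obtain ⟨H, hH, h1, h3, h4⟩ := PGroup.exists_critical hP
  have co : (orderOf (a ^ p)).Coprime 2 := (((Nat.coprime_primes hp Nat.prime_two).2 hp2).pow_left k).coprime_dvd_left
    ((orderOf_pow_dvd p).trans (orderOf_dvd_of_pow_eq_one ha))
  let K : Subgroup P :=
    { carrier := {x | x ∈ H ∧ x ^ 4 = 1}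
      one_mem' := ⟨one_mem _, one_pow _⟩
      inv_mem' := fun hx => ⟨inv_mem hx.1, by rw [inv_pow, hx.2, inv_one]⟩
      mul_mem' := fun {x y} hx hy => ⟨mul_mem hx.1 hy.1, by
        have hwx : Commute ⁅x, y⁆ x := (h3 x hx.1 y x hx.1).symm
        have hwy : Commute ⁅x, y⁆ y := (h3 x hx.1 y y hy.1).symm
        have e := PGroup.mul_eq_mul_mul_commutator_inv hwx hwy
        rw [PGroup.mul_pow_class_two e hwx.inv_left hwy.inv_left, hx.2, hy.2, one_mul, one_mul]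
        exact PGroup.pow_eq_one_of_dvd' (PGroup.comm_pow_eq_one_of_right e hwx.inv_left (h1 x hx.1 y hy.1)) (by decide)⟩ }
  have iv : ∀ b : MulAut P, ∀ x ∈ K, b x ∈ K := fun b x hx =>
    ⟨PGroup.apply_mem_of_characteristic b hx.1, by rw [← map_pow, hx.2, map_one]⟩
  let F : Subgroup P := K ⊓ (a ^ p).toMonoidHom.eqLocus (MonoidHom.id P)
  have WF : W ≤ F := fun x hx => ⟨⟨h4 fun y _ => mem_center_iff.1 (hZ hx) y, by
    rw [show 4 = 2 * 2 from rfl, pow_mul, pow_two x, (hW x).1 hx, one_pow]⟩, hf x hx⟩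
  obtain ⟨m, hm⟩ := ((hP.to_subgroup K).index (F.subgroupOf K))
  have c1 := card_mul_relIndex' (inf_le_left : F ≤ K)
  rw [relIndex, hm] at c1
  have c2 : Nat.card K ≤ Nat.card W * Nat.card W ^ 2 := not_lt.1 fun k => by
    obtain ⟨x, -, k1, k2⟩ := Suz2.exists_sq_mem_in (L := ⊥) (WF.trans inf_le_left) hZ (fun x hx => (hW _).2 (by
      rw [← hx.2]; simp only [pow_succ, pow_zero, one_mul, mul_assoc])) le_rfl (fun z hz => (hW z).1 hz) bot_le (by simpa using k)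
    exact k1 ((hW x).2 k2)
  have c3 : p ^ 2 ∣ Nat.card F * (2 ^ m - 1) := by
    have := sq_dvd_card (α := {x : P // x ∈ K ∧ x ∉ F}) (k := k) hp (f := (MulAut.toPerm P a).subtypePerm fun x => ?_) ?_ ?_
    · rwa [Nat.mul_sub_one, c1, ← SetLike.coe_sort_coe, ← SetLike.coe_sort_coe, Nat.card_coe_set_eq, Nat.card_coe_set_eq,
        ← Set.ncard_sdiff (inf_le_left : F ≤ K)]
    · have e : ∀ y, (a ^ p) (a y) = a ((a ^ p) y) := fun y => by
        rw [← MulAut.mul_apply, ← pow_succ, pow_succ', MulAut.mul_apply]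
      have i : a x ∈ K ↔ x ∈ K := ⟨fun k => by simpa using iv a⁻¹ _ k, iv a x⟩
      change a x ∈ K ∧ ¬ (a x ∈ K ∧ (a ^ p) (a x) = a x) ↔ x ∈ K ∧ ¬ (x ∈ K ∧ (a ^ p) x = x)
      rw [i, e, a.injective.eq_iff]
    · ext x
      rw [Equiv.Perm.subtypePerm_pow]
      change ((MulAut.toPerm P a) ^ p ^ k) x = x
      rw [← map_pow, ha, map_one, Equiv.Perm.one_apply]
    · intro x e
      rw [Equiv.Perm.subtypePerm_pow, Subtype.ext_iff] at e
      change ((MulAut.toPerm P a) ^ p) x = x at e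
      rw [← map_pow] at e
      exact x.2.2 ⟨x.2.1, e⟩
  obtain ⟨j, hj⟩ := (hP.to_subgroup F).exists_card_eq
  have m0 := arith hp hp2 ((hj ▸ ((Nat.coprime_primes hp Nat.prime_two).2 hp2).pow 2 j).dvd_of_dvd_mul_left c3)
    ((Nat.le_of_mul_le_mul_left (((Nat.mul_le_mul_right _ (card_le_of_le WF)).trans c1.le).trans c2) Nat.card_pos).trans
      (Nat.pow_le_pow_left hc 2))
  rw [m0, pow_zero, index_eq_one, subgroupOf_eq_top] at hm
  exact PGroup.aut_eq_one_of_fix_self_centralizing hP h4 co (PGroup.aut_apply_eq_of_fix_pow_eq_one (n := 2) two_ne_zero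
    (by norm_num) co (hP.to_subgroup H) (fun x => PGroup.apply_mem_of_characteristic _) fun x hx e => (hm ⟨hx, e⟩).2)

theorem Pyr.reg (h : Pyr V) (hp : p.Prime) (hp2 : p ≠ 2) (hV : Nat.card V = p + 1) (hT : IsPGroup 2 T) (hTC : T ≤ Cz V)
    {σ : G} (hσ : σ ∈ normalizer (T : Set G)) (ho : σ ^ p ^ k = 1) (hτ : σ ^ p ∈ Cz V) : σ ^ p ∈ Cz T := by
  have := reg_aut (k := k) hp hp2 hT (W := V.subgroupOf T) (fun x => (h.mem x).trans (by rw [Subtype.ext_iff]; rfl))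
    (fun x hx => mem_center_iff.2 fun y => Subtype.ext (hTC y.2 x hx).symm)
    (hV ▸ Nat.card_le_card_of_injective (fun x => (⟨x.1.1, x.2⟩ : V)) fun x y e => Subtype.ext (Subtype.ext (congrArg (·.1) e)))
    (a := T.normalizerMonoidHom ⟨σ, hσ⟩) (by rw [← map_pow, show (⟨σ, hσ⟩ : normalizer (T : Set G)) ^ p ^ k = 1 from
      Subtype.ext ho, map_one]) fun x hx => by
      rw [← map_pow]
      exact Subtype.ext (mem_Cz'.1 hτ _ hx)
  rwa [← map_pow, ← MonoidHom.mem_ker, normalizerMonoidHom_ker] at this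

theorem Pyr.ncard (hV : Nat.card V = p + 1) : {x | x ∈ V ∧ x ≠ 1}.ncard = p := by
  have := Set.ncard_sdiff_singleton_add_one (s := (V : Set G)) V.one_mem
  rw [← Nat.card_coe_set_eq (V : Set G), SetLike.coe_sort_coe, hV] at this
  exact Nat.succ_injective this

theorem Pyr.cyc (h : Pyr V) (hp : p.Prime) (hV : Nat.card V = p + 1) {σ v : G} (ho : σ ^ p ^ k = 1) (hv : v ∈ V)
    (hm : σ * v * σ⁻¹ ≠ v) : (∀ n, σ ^ n * v * (σ ^ n)⁻¹ = v ↔ p ∣ n) ∧
      ∀ x ∈ V, x ≠ 1 → ∃ n : ℕ, σ ^ n * v * (σ ^ n)⁻¹ = x := by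
  let a := MulAut.conj σ
  have := Fintype.ofFinite (MulAction.orbit (zpowers a) v)
  have e : ∀ n, σ ^ n * v * (σ ^ n)⁻¹ = a ^ n • v := fun n => by rw [← map_pow]; rfl
  have s : MulAction.orbit (zpowers a) v ⊆ {x | x ∈ V ∧ x ≠ 1} := by
    rintro _ ⟨⟨_, n, rfl⟩, rfl⟩
    change (a ^ n) v ∈ V ∧ (a ^ n) v ≠ 1
    rw [ne_eq, map_eq_one_iff _ (a ^ n).injective, ← map_zpow]
    exact ⟨h.conj_mem hv _, fun k => hm (by simp [k])⟩
  have c := MulAction.minimalPeriod_eq_card a v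
  rw [← Nat.card_eq_fintype_card, Nat.card_coe_set_eq] at c
  obtain ⟨i, -, d⟩ := (Nat.dvd_prime_pow hp).1
    (MulAction.pow_smul_eq_iff_minimalPeriod_dvd.1 (show a ^ p ^ k • v = v by rw [← e, ho]; simp))
  have l := Set.ncard_le_ncard s
  rw [← c, d, Pyr.ncard hV] at l
  obtain rfl : i = 1 := by
    have := (Nat.pow_le_pow_iff_right hp.one_lt).1 (l.trans (pow_one p).ge)
    have : i ≠ 0 := fun k => hm (by
      simpa [a] using MulAction.pow_smul_eq_iff_minimalPeriod_dvd (a := a) (b := v) (n := 1).2 (by rw [d, k, pow_zero]))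
    omega
  rw [pow_one] at d
  refine ⟨fun n => by rw [e, MulAction.pow_smul_eq_iff_minimalPeriod_dvd, d], fun x hx x1 => ?_⟩
  obtain ⟨⟨_, n, rfl⟩, k⟩ := (Set.eq_of_subset_of_ncard_le s (by rw [← c, d, Pyr.ncard hV])).ge ⟨hx, x1⟩
  obtain ⟨n, hn⟩ := mem_powers_iff_mem_zpowers.2 (zpow_mem (mem_zpowers σ) n)
  refine ⟨n, ?_⟩
  rw [show σ ^ n = _ from hn, ← k, ← MulAut.conj_apply, map_zpow]
  rfl

theorem Pyr.sz (h : Pyr V) (hp : p.Prime) (hp2 : p ≠ 2) (hV : Nat.card V = p + 1) (hT : IsSylowIn 2 T (Cz V)) :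
    T ≤ Cz T ∨ Sz V T := by
  have := Fact.mk hp
  have := h.Cz_normal
  have two : 1 < {x | x ∈ V ∧ x ≠ 1}.ncard := by rw [Pyr.ncard hV]; exact hp.one_lt
  obtain ⟨u, u', ⟨hu, u1⟩, ⟨hu', u1'⟩, uu⟩ := (Set.one_lt_ncard_iff (Set.toFinite _)).1 two
  obtain ⟨S, hS⟩ := exists_isSylowIn p (normalizer (T : Set G))
  obtain ⟨σ, hσ, σC⟩ : ∃ σ ∈ S, σ ∉ Cz V := by
    by_contra! n
    refine hS.not_dvd (.trans ?_ (relIndex_dvd_of_le_left _ n))
    rw [← relIndex_sup_right, show normalizer (T : Set G) ⊔ Cz V = ⊤ from eq_top_iff.2 fun g _ => by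
      obtain ⟨c, hc, k⟩ := hT.frattini' (g := g) (by rw [normalizer_eq_top]; trivial)
      simpa using mul_mem (mem_sup_left k) (inv_mem (mem_sup_right hc)), relIndex_top_right]
    refine .trans ?_ (index_dvd_of_le (centralizer_le (Set.singleton_subset_iff.2 hu)))
    rw [← Fgs.ncard_isConj_eq_index, ← Pyr.ncard hV]
    refine dvd_of_eq (congrArg _ (Set.ext fun y => ⟨fun k => isConj_iff.2 (h.conj u hu y k.1 u1 k.2), fun k => ?_⟩))
    obtain ⟨g, rfl⟩ := isConj_iff.1 k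
    exact ⟨h.conj_mem hu g, by simpa using u1⟩
  obtain ⟨k, ho⟩ := isPGroup_iff_mem.1 hS.pgroup σ hσ
  simp only [mem_Cz', not_forall] at σC
  obtain ⟨v, hv, hm⟩ := σC
  obtain ⟨c1, c2⟩ := h.cyc hp hV ho hv hm
  have fx : ∀ n, ∀ x ∈ V, x ≠ 1 → (σ ^ n * x * (σ ^ n)⁻¹ = x ↔ p ∣ n) := fun n x hx x1 => by
    obtain ⟨j, rfl⟩ := c2 x hx x1
    rw [← c1, show σ ^ n * (σ ^ j * v * (σ ^ j)⁻¹) * (σ ^ n)⁻¹ = σ ^ j * (σ ^ n * v * (σ ^ n)⁻¹) * (σ ^ j)⁻¹ by group,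
      mul_left_inj, mul_right_inj]
  have hτ := h.reg hp hp2 hV hT.pgroup hT.le (hS.le hσ) ho (mem_Cz'.2 fun x hx => by
    by_cases e : x = 1
    · simp [e]
    · exact (fx p x hx e).2 dvd_rfl)
  have VT := h.le_syl hT
  let a := T.normalizerMonoidHom ⟨σ, hS.le hσ⟩
  have ea : ∀ n (x : T), ((a ^ n) x : G) = σ ^ n * x * (σ ^ n)⁻¹ := fun n x => by rw [← map_pow]; rfl
  have mv : ∀ x : T, x * x = 1 ↔ (x : G) ∈ V := fun x => by rw [h.mem, Subtype.ext_iff]; rfl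
  have st : Suz2.Setup a := ⟨hT.pgroup, fun x y x1 xx y1 yy => ?_, fun n x x1 xx e => ?_,
    ⟨⟨u, VT hu⟩, ⟨u', VT hu'⟩, by simpa using uu, by simpa using u1, (mv _).2 hu, by simpa using u1', (mv _).2 hu'⟩⟩
  · refine or_iff_not_imp_left.2 fun n => ?_
    have na : ∃ x y : T, x * y ≠ y * x := by
      by_contra! k
      exact n fun x hx y hy => congrArg Subtype.val (k ⟨y, hy⟩ ⟨x, hx⟩)
    obtain ⟨hZ, hq⟩ := st.center_eq_and_sq na
    have sq : ∀ x ∈ T, x * x ∈ V := fun x hx => (mv _).1 (st.mem_Om.1 (hq ⟨x, hx⟩))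
    have cd := st.card_eq na
    rw [hZ, show Suz2.Om T = V.subgroupOf T from ext fun x => st.mem_Om.trans (mv x),
      Nat.card_congr (subgroupOfEquivOfLe VT).toEquiv] at cd
    refine ⟨sq, fun x hx y hy => ?_, cd⟩
    rw [Suz2.comm_eq_sq]
    exact mul_mem (mul_mem (sq _ hx) (sq _ (mul_mem (inv_mem hx) hy))) (inv_mem (sq _ hy))
  · obtain ⟨i, hi⟩ := c2 x ((mv x).1 xx) (by simpa using x1)
    obtain ⟨j, hj⟩ := c2 y ((mv y).1 yy) (by simpa using y1)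
    refine ⟨j + (p - 1) * i, Subtype.ext ?_⟩
    rw [ea, ← hi, ← hj]
    obtain ⟨q, rfl⟩ := Nat.exists_eq_add_one_of_ne_zero hp.ne_zero
    conv_rhs => rw [← (c1 ((q + 1) * i)).2 (dvd_mul_right _ _)]
    simp only [Nat.add_sub_cancel, add_mul, one_mul, pow_add]
    group
  · obtain ⟨m, rfl⟩ := (fx n x ((mv x).1 xx) (by simpa using x1)).1 (by rw [← ea, e])
    rw [pow_mul, show a ^ p = 1 from MulEquiv.ext fun y => Subtype.ext (by rw [ea]; exact mem_Cz'.1 hτ _ y.2), one_pow]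

end CfsgLib.PkI
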