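import Cfsg.Agent.Lib.PkI.Defs

/-! Rank three, `C(V)` abelian (plans/PKI2.md) -/

set_option autoImplicit false

namespace CfsgLib.PkI

open Subgroup CfsgLib.Tech
open scoped commutatorElement

/-- `𝔽₂³` -/
abbrev M3 : Type := ZMod 2 × ZMod 2 × ZMod 2

section Mod

variable {G A : Type*} [Group G] [AddCommGroup A] [DistribMulAction G A] {ι : M3 → A} {m : ℕ}

/-- `g` induces `f` -/
def Ind (ι : M3 → A) (g : G) (f : M3 → M3) : Prop := ∀ v, g • ι v = ι (f v)

theorem Ind.mul {g g' : G} {f f' : M3 → M3} (h : Ind ι g f) (h' : Ind ι g' f') : Ind ι (g * g') fun v => f (f' v) :=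
  fun v => by rw [mul_smul, h', h]

theorem step {P : ℕ → Prop} (h0 : ¬ P 0) {e : ℕ} (he : P e) : ∃ j, ¬ P j ∧ P (j + 1) := by
  by_contra! k
  exact (e.rec h0 k : ¬ P e) he

theorem gen {D E : AddSubgroup A} (hm : ∀ a : A, 2 ^ (m + 1) • a = 0) (hDE : D ≤ E)
    (h : ∀ a ∈ E, a + a = 0 → ∃ d ∈ D, 2 ^ m • d = a) : E ≤ D := by
  suffices ∀ j ≤ m + 1, ∀ a ∈ E, 2 ^ j • a = 0 → a ∈ D from fun a ha => this _ le_rfl a ha (hm a)
  intro j
  induction j with
  | zero => exact fun _ a _ e => by rw [show a = 0 by simpa using e]; exact zero_mem _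
  | succ j ih =>
    intro hj a ha e
    obtain ⟨d, hd, e'⟩ := h _ (nsmul_mem ha (2 ^ j)) (by rw [← add_nsmul, ← mul_two, ← pow_succ, e])
    exact sub_add_cancel a (2 ^ (m - j) • d) ▸ add_mem (ih (by omega) (a - 2 ^ (m - j) • d) (sub_mem ha (nsmul_mem (hDE hd) _)) (by
      rw [smul_sub, smul_smul, ← pow_add, Nat.add_sub_cancel' (by omega), e', sub_self])) (nsmul_mem hd (2 ^ (m - j)))

theorem three_mod [Finite A] (add : ∀ v w, ι (v + w) = ι v + ι w) (inj : Function.Injective ι)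
    (mem : ∀ a, a + a = 0 → ∃ v, ι v = a) (ext : ∀ g : G, Ind ι g id → ∀ a : A, g • a = a)
    (full : ∀ f : M3 → M3, (∀ v w, f (v + w) = f v + f w) → f.Injective → ∃ g : G, Ind ι g f)
    (tr : ∀ v, v ≠ 0 → ∃ g : G, g • ι v = ι (1, 0, 0)) {e : ℕ} (he : ∀ a : A, 2 ^ e • a = 0) :
    ∃ s : G, ¬ Ind ι (s * s) id ∧ Ind ι (s * s * (s * s)) id ∧ ∀ z : A, s • z = z → ∃ b, z = b + (s * s) • b := by
  have i0 : ι 0 = 0 := by simpa using add 0 0
  have i2 : ∀ v, ι v + ι v = 0 := fun v => by rw [← add, ← i0]; congr 1; revert v; decide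
  have rel : ∀ {g g' : G} {f f' : M3 → M3}, Ind ι g f → Ind ι g' f' → (∀ v, f v = f' v) → ∀ a : A, g • a = g' • a :=
    fun {g g' f f'} h h' k a => by
      rw [← inv_smul_eq_iff, ← mul_smul]
      exact ext _ (fun v => by rw [mul_smul, inv_smul_eq_iff, h, id, h', k]) a
  have inv : ∀ a : A, a ≠ 0 → ∃ j v, v ≠ 0 ∧ ι v = 2 ^ j • a := fun a ha => by
    obtain ⟨j, hn, hf⟩ := step (P := fun j => 2 ^ j • a = 0) (by simpa using ha) (he a)
    obtain ⟨v, hv⟩ := mem (2 ^ j • a) (by rw [← add_nsmul, ← mul_two, ← pow_succ, hf])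
    exact ⟨j, v, fun k => hn (by rw [← hv, k, i0]), hv⟩
  obtain ⟨m, hm, b, hb⟩ : ∃ m, (∀ a : A, 2 ^ (m + 1) • a = 0) ∧ ∃ b : A, 2 ^ m • b = ι (1, 0, 0) := by
    obtain ⟨j, hn, hf⟩ := step (P := fun j => ∀ a : A, 2 ^ j • a = 0) (fun k =>
      absurd (inj (show ι (1, 0, 0) = ι 0 by simpa [i0] using k _)) (by decide)) he
    obtain ⟨b, hb⟩ := not_forall.1 hn
    obtain ⟨v, hv⟩ := mem (2 ^ j • b) (by rw [← add_nsmul, ← mul_two, ← pow_succ, hf])
    obtain ⟨g, hg⟩ := tr v fun k => hb (by rw [← hv, k, i0])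
    exact ⟨j, hf, g • b, by rw [smul_comm, ← hv, hg]⟩
  obtain ⟨t₁, h₁⟩ := full (fun v => (v.1, v.2.1 + v.1, v.2.2)) (by decide) (by decide)
  obtain ⟨t₂, h₂⟩ := full (fun v => (v.1, v.2.1, v.2.2 + v.1)) (by decide) (by decide)
  obtain ⟨ρ, hρ⟩ := full (fun v => (v.1, v.2.2, v.2.1 + v.2.2)) (by decide) (by decide)
  obtain ⟨τ, hτ⟩ := full (fun v => (v.1, v.2.1 + v.2.2, v.2.2)) (by decide) (by decide)
  obtain ⟨g, hg⟩ := full (fun v => (v.2.2, v.2.1, v.1)) (by decide) (by decide)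
  have one : Ind ι (1 : G) id := fun v => one_smul _ _
  have r1 := rel (h₁.mul h₁) one (by decide)
  have r2 := rel (h₂.mul h₁) (h₁.mul h₂) (by decide)
  have r3 := rel (hρ.mul h₁) (h₂.mul hρ) (by decide)
  have r4 := rel (hρ.mul h₂) (h₁.mul (h₂.mul hρ)) (by decide)
  have r5 := rel (h₂.mul h₂) one (by decide)
  have r6 := rel (hρ.mul (hρ.mul hρ)) one (by decide)
  have r7 := rel (hρ.mul hτ) (hτ.mul (hρ.mul hρ)) (by decide)
  have r8 := rel (hτ.mul h₁) (h₁.mul hτ) (by decide)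
  have r9 := rel (hτ.mul hg) (hg.mul h₁) (by decide)
  have hs := h₂.mul hτ
  have r10 := rel (hs.mul hs) h₁ (by decide)
  simp only [mul_smul, one_smul] at r1 r2 r3 r4 r5 r6 r7 r8 r9
  obtain ⟨h, e1, e2⟩ : ∃ h : A, ρ • h = h ∧ 2 ^ m • h = ι (1, 0, 0) := ⟨b + ρ • b + ρ • ρ • b, by
    rw [smul_add, smul_add, r6]; abel, by
    rw [smul_add, smul_add, smul_comm _ ρ, smul_comm _ ρ, smul_comm _ ρ, hb, hρ, hρ, ← add, ← add]; congr 1⟩
  have S : h + t₁ • h + (t₂ • h + t₁ • t₂ • h) = 0 := by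
    by_contra n
    obtain ⟨j, v, v0, hv⟩ := inv _ n
    have a1 : t₁ • ι v = ι v := by
      rw [hv, smul_comm]; congr 1; simp only [smul_add, r1]; abel
    have a2 : ρ • ι v = ι v := by
      rw [hv, smul_comm]; congr 1; simp only [smul_add, r3, r4, r2, r5, e1]; abel
    rw [h₁] at a1
    rw [hρ] at a2
    exact (by decide : ∀ v : M3, (v.1, v.2.1 + v.1, v.2.2) = v → (v.1, v.2.2, v.2.1 + v.2.2) = v → v = 0) v (inj a1) (inj a2) |> v0
  set E := h + t₁ • h with hE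
  have eE : 2 ^ m • E = ι (0, 1, 0) := by rw [smul_add, smul_comm, e2, h₁, ← add]; congr 1
  have nm : ∀ a : A, a + t₁ • a ∈ AddSubgroup.zmultiples E := fun a => by
    have k := gen (D := AddSubgroup.closure {h, t₁ • h, t₂ • h}) (E := ⊤) hm le_top (fun a _ ha => by
      obtain ⟨v, rfl⟩ := mem a ha
      let K := (AddSubgroup.closure {h, t₁ • h, t₂ • h}).map (nsmulAddMonoidHom (2 ^ m))
      have b1 : ι (1, 0, 0) ∈ K := ⟨h, AddSubgroup.subset_closure (by simp), e2⟩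
      have b2 : ι (1, 1, 0) ∈ K := ⟨t₁ • h, AddSubgroup.subset_closure (by simp), by
        rw [nsmulAddMonoidHom_apply, smul_comm, e2, h₁]; rfl⟩
      have b3 : ι (1, 0, 1) ∈ K := ⟨t₂ • h, AddSubgroup.subset_closure (by simp), by
        rw [nsmulAddMonoidHom_apply, smul_comm, e2, h₂]; rfl⟩
      have b4 : ∀ (c : ZMod 2) (w : M3), ι w ∈ K → ι (c • w) ∈ K := fun c w k => by
        rcases (by decide : ∀ c : ZMod 2, c = 0 ∨ c = 1) c with rfl | rfl
        · rw [zero_smul, i0]; exact zero_mem _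
        · rwa [one_smul]
      change _ ∈ K
      rw [(by decide : ∀ v : M3, v = (v.1 + v.2.1 + v.2.2) • (1, 0, 0) + v.2.1 • (1, 1, 0) + v.2.2 • (1, 0, 1)) v, add, add]
      exact add_mem (add_mem (b4 _ _ b1) (b4 _ _ b2)) (b4 _ _ b3)) (AddSubgroup.mem_top a)
    induction k using AddSubgroup.closure_induction with
    | mem x hx =>
      rcases hx with rfl | rfl | rfl
      · exact AddSubgroup.mem_zmultiples _
      · rw [r1, add_comm]; exact AddSubgroup.mem_zmultiples _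
      · rw [eq_neg_of_add_eq_zero_right S]; exact neg_mem (AddSubgroup.mem_zmultiples _)
    | zero => simp
    | add x y _ _ hx hy => rw [smul_add, add_add_add_comm]; exact add_mem hx hy
    | neg x _ hx => rw [smul_neg, ← neg_add]; exact neg_mem hx
  have un : ∀ (a : A) v, ι v = a + t₁ • a → v ≠ 0 → v = (0, 1, 0) := fun a v k v0 => by
    have o : addOrderOf E = 2 ^ (m + 1) := addOrderOf_eq_prime_pow
      (fun k => absurd (inj (eE.symm.trans (k.trans i0.symm))) (by decide)) (hm E)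
    obtain ⟨n, hn⟩ := mem_multiples_iff_mem_zmultiples.2 (nm a)
    replace hn : n • E = ι v := hn.trans k.symm
    obtain ⟨c, rfl⟩ : 2 ^ m ∣ n := Nat.dvd_of_mul_dvd_mul_right two_pos (by
      rw [← pow_succ, ← o, addOrderOf_dvd_iff_nsmul_eq_zero, mul_two, add_nsmul, hn, i2])
    rw [mul_comm, mul_smul, eE] at hn
    rcases Nat.even_or_odd' c with ⟨c, rfl | rfl⟩
    · rw [mul_comm, mul_smul, two_nsmul, i2, smul_zero] at hn
      exact absurd (inj (hn.symm.trans i0.symm)) v0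
    · rw [add_smul, mul_comm, mul_smul, two_nsmul, i2, smul_zero, zero_add, one_smul] at hn
      exact (inj hn).symm
  have tm : τ • h = -h := by
    refine eq_neg_of_add_eq_zero_right (by_contra fun n => ?_)
    obtain ⟨j, v, v0, hv⟩ := inv _ n
    have a2 : ρ • ι v = ι v := by rw [hv, smul_comm, smul_add, r7, e1, e1]
    rw [hρ] at a2
    have := un (g⁻¹ • 2 ^ j • h) (v.2.2, v.2.1, v.1) (by
      rw [← smul_left_cancel_iff g, hg, smul_add, ← r9, smul_inv_smul, smul_comm τ, ← smul_add, ← hv])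
    exact (by decide : ∀ v : M3, v ≠ 0 → (v.1, v.2.2, v.2.1 + v.2.2) = v →
      ¬ ((v.2.2, v.2.1, v.1) ≠ 0 → (v.2.2, v.2.1, v.1) = ((0, 1, 0) : M3))) v v0 (inj a2) this
  refine ⟨t₂ * τ, fun k => absurd (inj ((k (1, 0, 0)).symm.trans ((hs.mul hs) _))) (by decide),
    fun v => by rw [mul_smul, r10, r10, r1, id], fun z hz => ?_⟩
  obtain ⟨n, rfl⟩ := gen (D := AddSubgroup.zmultiples E)
    (E := (DistribSMul.toAddMonoidHom A (t₂ * τ)).eqLocus (AddMonoidHom.id A)) hm (AddSubgroup.zmultiples_le_of_mem (by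
      change (t₂ * τ) • E = E
      rw [mul_smul, smul_add, r8, tm, smul_neg, smul_add, smul_neg, smul_neg, r2, ← neg_add, neg_eq_of_add_eq_zero_left S]))
    (fun a ha a2 => by
      obtain ⟨v, rfl⟩ := mem a a2
      rcases (by decide : ∀ v : M3, (v.1, v.2.1 + v.2.2, v.2.2 + v.1) = v → v = 0 ∨ v = (0, 1, 0)) v
        (inj ((hs v).symm.trans ha)) with rfl | rfl
      · exact ⟨0, zero_mem _, by rw [smul_zero, i0]⟩
      · exact ⟨E, AddSubgroup.mem_zmultiples _, eE⟩) hz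
  exact ⟨n • h, by rw [r10, smul_comm t₁, ← smul_add]⟩

end Mod

variable {G : Type*} [Group G] [Finite G] {V T : Subgroup G} {p k : ℕ}

theorem Pyr.three (h : Pyr V) (hf : Full V) (h8 : Nat.card V = 8) (h2 : IsPGroup 2 (Cz V)) (ha : Cz V ≤ Cz (Cz V)) :
    False := by
  have := h.Cz_normal
  obtain ⟨ι, c⟩ := h.coord hf M3 (by simp [h8])
  let : CommGroup (Cz V) := { (inferInstance : Group (Cz V)) with mul_comm := fun a b => Subtype.ext (ha b.2 a a.2) }
  let : DistribMulAction G (Additive (Cz V)) :=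
    { smul := fun g a => Additive.ofMul (MulAut.conjNormal g a.toMul)
      one_smul := fun a => by change Additive.ofMul (MulAut.conjNormal 1 a.toMul) = a; simp
      mul_smul := fun g g' a => by change Additive.ofMul (MulAut.conjNormal (g * g') a.toMul) = _; rw [map_mul]; rfl
      smul_zero := fun g => map_one (MulAut.conjNormal g)
      smul_add := fun g a b => map_mul (MulAut.conjNormal g) a.toMul b.toMul }
  have sm : ∀ (g : G) (a b : Additive (Cz V)), g • a = b ↔ g * a.toMul * g⁻¹ = b.toMul := fun g a b => Subtype.ext_iff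
  obtain ⟨e, he⟩ := h2.exists_card_eq
  have I : ∀ g f, Ind (fun v => Additive.ofMul (⟨ι v, h.le_Cz (c.mem' v)⟩ : Cz V)) g f ↔ ∀ v, g * ι v * g⁻¹ = ι (f v) :=
    fun g f => forall_congr' fun v => sm _ _ _
  obtain ⟨s, s1, s3, s2⟩ := three_mod (G := G) (ι := fun v => Additive.ofMul (⟨ι v, h.le_Cz (c.mem' v)⟩ : Cz V))
    (fun v w => Subtype.ext (c.add v w)) (fun v w k => c.inj (congrArg (·.toMul.1) k))
    (fun a k => ((c.mem _).1 ((h.mem a.toMul.1).2 (congrArg (·.toMul.1) k))).imp fun _ => Subtype.ext)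
    (fun g k a => (sm _ _ _).2 (mem_Cz'.1 (ha (c.mem_Cz.2 ((I _ _).1 k))) _ a.toMul.2))
    (fun f h1 h2 => (c.full (AddEquiv.ofBijective (AddMonoidHom.mk' f h1) (Finite.injective_iff_bijective.1 h2))).imp
      fun g k => (I _ _).2 k)
    (fun v v0 => (h.conj _ (c.mem' v) _ (c.mem' (1, 0, 0)) (mt c.eq_one_iff.1 v0) (mt c.eq_one_iff.1 (by decide))).imp
      fun g k => (sm _ _ _).2 k) (e := e) fun a => by
      rw [← he, ← Nat.card_congr Additive.toMul, card_nsmul_eq_zero']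
  rw [I] at s1
  have m : s * s * (s * s) ∈ Cz V := c.mem_Cz.2 ((I _ _).1 s3)
  obtain ⟨b, e⟩ := s2 (Additive.ofMul ⟨_, m⟩) ((sm _ _ _).2 (by simp [mul_assoc]))
  replace e : s * s * (s * s) = b.toMul * (s * s * b.toMul * (s * s)⁻¹) := congrArg (·.toMul.1) e
  have k := ha b.toMul.2 _ m
  refine s1 (c.mem_Cz.1 ((mul_mem_cancel_left (inv_mem b.toMul.2)).1 (h.le_Cz ((h.mem _).2 ?_))))
  generalize s * s = x at e k
  generalize (b.toMul : G) = y at e k
  calc y⁻¹ * x * (y⁻¹ * x) = y⁻¹ * (y * (x * y * x⁻¹))⁻¹ * (y * (x * x)) := by group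
    _ = 1 := by rw [← e, ← k]; group

end CfsgLib.PkI
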