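import Cfsg.Agent.Lib.PkI.One
import Cfsg.Agent.Lib.PkI.Red
import Cfsg.Agent.Lib.PkI.Reg
import Cfsg.Agent.Lib.PkI.Nrm
import Cfsg.Agent.Lib.PkI.Full
import Cfsg.Agent.Lib.PkI.Big
import Cfsg.Agent.Lib.PkI.Ab3
import Cfsg.Agent.Lib.PkI.Three

/-! Assembly (plans/PKI2.md) -/

set_option autoImplicit false

namespace CfsgLib.PkI

open Subgroup CfsgLib.Tech Cfsg
open scoped commutatorElement

variable {G : Type*} [Group G] [Finite G] {V T : Subgroup G} {p k : ℕ}

theorem Pyr.solvable (h : Pyr V) (hp : p.Prime) (hp2 : p ≠ 2) (hV : Nat.card V = p + 1) (hO : pPrimeCore 2 G = ⊥) :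
    Group.IsSolvable G := by
  obtain ⟨T, hT⟩ := exists_isSylowIn 2 (Cz V)
  have hs := h.sz hp hp2 hV hT
  have := hp.two_le
  obtain ⟨_, hA⟩ := h.nrm hO (h.layer_eq (by omega) fun _ => h.sz hp hp2 hV) hT hs
  have hC : Group.IsSolvable (Cz V) := by
    have : Group.IsNilpotent (T.subgroupOf (Cz V)) := (hT.pgroup.comap_subtype (K := Cz V)).isNilpotent
    have := FT.odd_order_solvable (G := Cz V ⧸ T.subgroupOf (Cz V)) (Nat.odd_iff.2 (Nat.two_dvd_ne_zero.1 hT.not_dvd))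
    exact Group.isSolvable_of_ker_le_range (T.subgroupOf (Cz V)).subtype (QuotientGroup.mk' (T.subgroupOf (Cz V))) (by simp)
  refine (h.full hp hp2 hV hC).resolve_right fun ⟨h8, hf⟩ => ?_
  obtain ⟨n, hn⟩ := h.exists_card
  by_cases h16 : 16 ≤ Nat.card V
  · exact h.big hf h16 hT
  have e : Nat.card V = 8 := by
    rw [hn] at h8 h16 ⊢
    have h3 : 3 ≤ n := (Nat.pow_le_pow_iff_right (by norm_num : 1 < 2)).1 h8
    have h4 : ¬ 4 ≤ n := fun k => h16 (Nat.pow_le_pow_right (by norm_num : 0 < 2) k)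
    rw [show n = 3 by omega]
    rfl
  have a := hs.elim id (h.ab3 hf e hT)
  exact h.three hf e (hA a ▸ hT.pgroup) (hA a ▸ a)

theorem main (hp : p.Prime) (hp2 : p ≠ 2) (hk : Odd k ∨ p ^ k = 9) (hc : Nat.card {x : G // orderOf x = 2} = p ^ k)
    (hj : ∀ x y : G, orderOf x = 2 → orderOf y = 2 → ∃ g : G, g * x * g⁻¹ = y) : Group.IsSolvable G := by
  by_cases hn : ∀ x y : G, orderOf x = 2 → orderOf y = 2 → x * y = y * x → x = y
  · exact hk.elim (fun k => one_odd hp hp2 k hc hj hn) fun k => one_nine (hc.trans k) hj hn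
  simp only [not_forall] at hn
  obtain ⟨x, y, hx, hy, hxy, hne⟩ := hn
  have hO := Core.pPrimeCore_quotient_pPrimeCore 2 G
  obtain ⟨V, h, hV⟩ := red hp hp2 hc hj (Core.odd_card_oddCore G) hO hx hy hxy hne
  have := h.solvable hp hp2 hV hO
  have := FT.odd_order_solvable (Core.odd_card_oddCore G)
  exact Group.isSolvable_of_ker_le_range (pPrimeCore 2 G).subtype (QuotientGroup.mk' (pPrimeCore 2 G)) (by simp)

end CfsgLib.PkI
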