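import Cfsg.Agent.Lib.PkI.Det
import Cfsg.Agent.Lib.Kazarin.Basic
import Cfsg.Agent.Lib.FT.OddOrder
import Cfsg.Agent.Lib.Char.Burnside

/-! No two involutions commute (plans/PKI2.md) -/

set_option autoImplicit false

namespace CfsgLib.PkI

open Subgroup CfsgLib.Tech
open scoped commutatorElement

variable {G : Type*} [Group G] [Finite G] {V T : Subgroup G} {p k : ℕ}

omit [Finite G] in
theorem one_relIndex (P : Subgroup G) (t : G) :
    (centralizer ({t} : Set G)).relIndex P = {y | ∃ g ∈ P, g * t * g⁻¹ = y}.ncard := by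
  let := MulAction.compHom G ((MulAut.conj (G := G)).comp P.subtype)
  have h1 := MulAction.index_stabilizer P t
  rw [show MulAction.stabilizer P t = (centralizer ({t} : Set G)).subgroupOf P from Subgroup.ext fun g => by
    rw [MulAction.mem_stabilizer_iff, mem_subgroupOf, mem_centralizer_singleton_iff, ← mul_inv_eq_iff_eq_mul]
    rfl] at h1
  rw [relIndex, h1]
  congr 1
  exact Set.ext fun y => ⟨fun ⟨g, e⟩ => ⟨g, g.2, e⟩, fun ⟨g, hg, e⟩ => ⟨⟨g, hg⟩, e⟩⟩

omit [Finite G] in
theorem one_sq {t : G} (ht : orderOf t = 2) : t * t = 1 := by rw [← pow_two, ← ht, pow_orderOf_eq_one]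

omit [Finite G] in
theorem one_conj {t : G} (ht : orderOf t = 2) (g : G) : orderOf (g * t * g⁻¹) = 2 :=
  ((MulAut.conj g).orderOf_eq t).trans ht

theorem one_odd_card {N : Subgroup G} (h : ∀ x ∈ N, orderOf x ≠ 2) : Group.IsSolvable N := by
  refine CfsgLib.FT.odd_subgroup_solvable (Nat.not_even_iff_odd.1 fun e => ?_)
  obtain ⟨x, hx⟩ := exists_prime_orderOf_dvd_card' (G := N) 2 e.two_dvd
  exact h x x.2 (by rw [orderOf_coe, hx])

theorem one_odd (hp : p.Prime) (hp2 : p ≠ 2) (hk : Odd k) (hc : Nat.card {x : G // orderOf x = 2} = p ^ k)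
    (hj : ∀ x y : G, orderOf x = 2 → orderOf y = 2 → ∃ g : G, g * x * g⁻¹ = y)
    (hn : ∀ x y : G, orderOf x = 2 → orderOf y = 2 → x * y = y * x → x = y) : Group.IsSolvable G := by
  have := Fact.mk hp
  by_cases h0 : ∀ x ∈ commutator G, orderOf x ≠ 2
  · have := one_odd_card h0
    exact Group.isSolvable_of_ker_le_range (commutator G).subtype Abelianization.of (by
      rw [Abelianization.ker_of, range_subtype])
  push Not at h0
  obtain ⟨t, htc, ht⟩ := h0
  exfalso
  have key : ∀ P : Subgroup G, (∀ g : G, ∃ y ∈ P, y * t * y⁻¹ = g * t * g⁻¹) →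
      (centralizer ({t} : Set G)).relIndex P = p ^ k := fun P hP => by
    rw [one_relIndex, ← hc, ← Nat.card_coe_set_eq]
    refine Nat.card_congr (Equiv.subtypeEquivRight fun y => ⟨?_, fun hy => ?_⟩)
    · rintro ⟨g, -, rfl⟩
      exact one_conj ht g
    · obtain ⟨g, rfl⟩ := hj t y ht hy
      exact hP g
  have h1 := key ⊤ fun g => ⟨g, trivial, rfl⟩
  rw [relIndex_top_right] at h1
  refine Nat.not_even_iff_odd.2 hk (even_of_mem_commutator hp hp2 (P := Cfsg.pCore p G) (Core.isPGroup_pCore p G)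
    (one_sq ht) htc (key _ fun g => ?_))
  have h2 := CfsgLib.Kazarin.commutatorElement_conj_mem_pCore hp t h1 1 g
  have hs := one_conj ht g
  set s := g * t * g⁻¹
  have ti : t⁻¹ = t := inv_eq_of_mul_eq_one_right (one_sq ht)
  have si : s⁻¹ = s := inv_eq_of_mul_eq_one_right (one_sq hs)
  rw [one_mul, inv_one, mul_one, commutatorElement_def, ti, si] at h2
  have h3 : ∀ a : ℕ, t * ((t * s) ^ a)⁻¹ = (t * s) ^ a * t := fun a => by
    have : SemiconjBy t (t * s)⁻¹ (t * s) := by
      rw [SemiconjBy, mul_inv_rev, ti, si, ← mul_assoc]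
    rw [← inv_pow]
    exact this.pow_right a
  rcases Nat.even_or_odd (orderOf (t * s)) with ⟨m, hm⟩ | ⟨m, hm⟩
  · exfalso
    have h4 := pow_orderOf_eq_one (t * s)
    have hpos := orderOf_pos (t * s)
    have h5 : (t * s) ^ m ≠ 1 := fun e => by
      have := Nat.le_of_dvd (by omega) (orderOf_dvd_of_pow_eq_one e)
      omega
    rw [hm, pow_add] at h4
    have h6 : orderOf ((t * s) ^ m) = 2 := orderOf_eq_prime (by rw [pow_two, h4]) h5
    have h7 := h3 m
    rw [inv_eq_of_mul_eq_one_right h4] at h7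
    have h8 : Commute ((t * s) ^ m) s := by
      have := (show Commute ((t * s) ^ m) t from h7.symm).inv_right.mul_right
        ((Commute.refl (t * s)).pow_left m)
      rwa [inv_mul_cancel_left] at this
    have h9 := (hn _ _ h6 ht h7.symm).symm.trans (hn _ _ h6 hs h8)
    apply h5
    rw [← h9, one_sq ht, one_pow]
  · have h4 := pow_orderOf_eq_one (t * s)
    rw [hm] at h4
    have h5 : t * s ∈ Cfsg.pCore p G := by
      have := pow_mem h2 (m + 1)
      rwa [mul_assoc (t * s), ← pow_two, ← pow_mul, show 2 * (m + 1) = 2 * m + 1 + 1 by ring, pow_succ, h4,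
        one_mul] at this
    refine ⟨(t * s) ^ m, pow_mem h5 m, ?_⟩
    rw [mul_assoc, h3, ← mul_assoc, ← pow_add, ← two_mul, eq_inv_of_mul_eq_one_left ((pow_succ _ _).symm.trans h4),
      mul_inv_rev, ti, si, mul_assoc, one_sq ht, mul_one]

theorem one_nine (hc : Nat.card {x : G // orderOf x = 2} = 9)
    (hj : ∀ x y : G, orderOf x = 2 → orderOf y = 2 → ∃ g : G, g * x * g⁻¹ = y)
    (hn : ∀ x y : G, orderOf x = 2 → orderOf y = 2 → x * y = y * x → x = y) : Group.IsSolvable G := by
  classical
  let : MulAction G {x : G // orderOf x = 2} :=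
    { smul := fun g x => ⟨g * x * g⁻¹, one_conj x.2 g⟩
      one_smul := fun x => Subtype.ext (show 1 * x.1 * 1⁻¹ = x by simp)
      mul_smul := fun g g' x => Subtype.ext (show g * g' * x.1 * (g * g')⁻¹ = g * (g' * x * g'⁻¹) * g⁻¹ by group) }
  let φ := MulAction.toPermHom G {x : G // orderOf x = 2}
  have hφ : ∀ g x, φ g x = x ↔ g * x = x * g := fun g x => Subtype.ext_iff.trans mul_inv_eq_iff_eq_mul
  let := Fintype.ofFinite {x : G // orderOf x = 2}
  rw [Nat.card_eq_fintype_card] at hc
  have : Group.IsSolvable φ.ker := one_odd_card fun s hs h2 => by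
    have : Fintype.card {x : G // orderOf x = 2} ≤ 1 := Fintype.card_le_one_iff.2 fun x y => Subtype.ext
      ((hn _ _ h2 x.2 ((hφ s x).1 (by rw [hs]; rfl))).symm.trans (hn _ _ h2 y.2 ((hφ s y).1 (by rw [hs]; rfl))))
    omega
  have : Group.IsSolvable φ.range := CfsgLib.Char.isSolvable_of_card_primeFactors_le_two (by
    refine (Finset.card_le_card (t := {2, 3}) fun r hr => ?_).trans (by simp)
    have hr' := Nat.prime_of_mem_primeFactors hr
    have := Fact.mk hr'
    obtain ⟨⟨_, g, rfl⟩, hg⟩ := exists_prime_orderOf_dvd_card' r (Nat.dvd_of_mem_primeFactors hr)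
    replace hg : orderOf (φ g) = r := (orderOf_coe _).trans hg
    have h1 := Equiv.Perm.card_compl_support_modEq (p := r) (n := 1) (σ := φ g)
      (by rw [pow_one, ← hg]; exact pow_orderOf_eq_one _)
    have h2 : 0 < (φ g).support.card := Finset.card_pos.2 (Finset.nonempty_iff_ne_empty.2 fun e => by
      rw [Equiv.Perm.support_eq_empty_iff.1 e, orderOf_one] at hg
      exact hr'.one_lt.ne hg)
    have h3 := Finset.card_add_card_compl (φ g).support
    have h4 : (φ g).supportᶜ.card = 0 ∨ (φ g).supportᶜ.card % 2 = 1 := by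
      rcases ((φ g).supportᶜ).eq_empty_or_nonempty with e | ⟨s, hs⟩
      · exact Or.inl (by rw [e]; rfl)
      right
      have mem : ∀ x, x ∈ (φ g).supportᶜ ↔ Commute g x := fun x => by
        rw [Finset.mem_compl, Equiv.Perm.notMem_support, hφ]; rfl
      have hs' := (mem s).1 hs
      let f : Function.End ↥((φ g).supportᶜ) := fun x => ⟨s.1 • x.1, (mem _).2
        ((hs'.mul_right ((mem _).1 x.2)).mul_right hs'.inv_right)⟩
      have h5 := Equiv.Perm.card_fixedPoints_modEq (p := 2) (n := 1) (f := f) (funext fun x =>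
        Subtype.ext (show s.1 • s.1 • x.1 = x.1 by rw [← mul_smul, one_sq s.2, one_smul]))
      have h6 : Fintype.card f.fixedPoints = 1 := Fintype.card_eq_one_iff.2
        ⟨⟨⟨s, hs⟩, Subtype.ext ((hφ s s).2 rfl)⟩, fun y => Subtype.ext (Subtype.ext (Subtype.ext
          (hn _ _ s.2 y.1.1.2 ((hφ s y.1.1).1 (congrArg Subtype.val y.2))).symm))⟩
      rwa [h6, Fintype.card_coe] at h5
    rw [hc] at h1 h3
    have h5 : r ∣ (φ g).support.card := by
      rw [← h3, add_comm] at h1
      exact (Nat.modEq_zero_iff_dvd).1 (Nat.ModEq.add_left_cancel' _ (h1.symm.trans (by rw [add_zero])))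
    have h6 := Nat.le_of_dvd h2 h5
    have h7 := hr'.two_le
    generalize (φ g).support.card = a at *
    generalize (φ g).supportᶜ.card = b at *
    have h8 : a ≤ 9 := by omega
    have h9 : r ≤ 9 := by omega
    interval_cases r <;> first | decide | exact absurd hr' (by decide) | omega)
  exact Group.isSolvable_of_ker_le_range φ.ker.subtype φ.rangeRestrict (by
    rw [MonoidHom.ker_rangeRestrict, range_subtype])

end CfsgLib.PkI
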